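import Mathlib
set_option linter.all false

/-!
# Closing step for groups of type J3

A proper subgroup containing the centraliser of an involution, in a group with one class of
involutions, is strongly embedded and meets some of its conjugates in a large subgroup of odd order.
-/

set_option autoImplicit false

namespace Cfsg.Agent.J3Type.Closing

variable {G : Type*} [Group G]

/-- the class of `t` under `K` has size `|K| / |C(t)|` if `C(t) ≤ K` -/
theorem card_class [Finite G] (t : G) (K : Subgroup G)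
    (hK : Subgroup.centralizer ({t} : Set G) ≤ K) :
    Nat.card {x : G // ∃ k ∈ K, k * t * k⁻¹ = x} * Nat.card (Subgroup.centralizer ({t} : Set G)) =
      Nat.card K := by
  let C' := (Subgroup.centralizer ({t} : Set G)).subgroupOf K
  have h1 : Nat.card C' = Nat.card (Subgroup.centralizer ({t} : Set G)) :=
    Nat.card_congr (Subgroup.subgroupOfEquivOfLe hK).toEquiv
  have h2 : Nat.card (K ⧸ C') = Nat.card {x : G // ∃ k ∈ K, k * t * k⁻¹ = x} := by
    have hrel : ∀ a b : K, (QuotientGroup.leftRel C') a b ↔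
        (a : G) * t * (a : G)⁻¹ = (b : G) * t * (b : G)⁻¹ := by
      intro a b
      rw [QuotientGroup.leftRel_apply, Subgroup.mem_subgroupOf, Subgroup.mem_centralizer_singleton_iff]
      show (a : G)⁻¹ * (b : G) * t = t * ((a : G)⁻¹ * (b : G)) ↔ _
      constructor
      · intro h
        calc (a : G) * t * (a : G)⁻¹ = a * (t * ((a : G)⁻¹ * b)) * (b : G)⁻¹ := by group
          _ = a * ((a : G)⁻¹ * (b : G) * t) * (b : G)⁻¹ := by rw [h]
          _ = _ := by group
      · intro h
        calc (a : G)⁻¹ * (b : G) * t = (a : G)⁻¹ * ((b : G) * t * (b : G)⁻¹) * b := by group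
          _ = (a : G)⁻¹ * ((a : G) * t * (a : G)⁻¹) * b := by rw [h]
          _ = _ := by group
    refine Nat.card_congr (Equiv.ofBijective (fun q => Quotient.liftOn' q
      (fun a : K => (⟨(a : G) * t * (a : G)⁻¹, a, a.2, rfl⟩ : {x : G // ∃ k ∈ K, k * t * k⁻¹ = x}))
      (fun a b hab => Subtype.ext ((hrel a b).1 hab))) ⟨?_, ?_⟩)
    · rintro ⟨a⟩ ⟨b⟩ hab
      apply Quotient.sound'
      apply (hrel a b).2
      exact congrArg Subtype.val hab
    · rintro ⟨x, k, hk, rfl⟩
      exact ⟨QuotientGroup.mk ⟨k, hk⟩, rfl⟩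
  rw [← h2, ← h1]
  exact (Subgroup.card_eq_card_quotient_mul_card_subgroup C').symm

/-- In a group with one class of involutions, a proper subgroup `H` containing `C(t)` and with one
class of involutions meets some conjugate in a subgroup of odd order at least `|H|/|C(t)|`. -/
theorem exists_large_inf [Finite G] (t : G) (ht1 : t ≠ 1) (htt : t * t = 1) (H : Subgroup G)
    (hCH : Subgroup.centralizer ({t} : Set G) ≤ H)
    (hone : ∀ x : G, x ≠ 1 → x * x = 1 → ∃ g : G, g * t * g⁻¹ = x)
    (honeH : ∀ x ∈ H, x ≠ 1 → x * x = 1 → ∃ g ∈ H, g * t * g⁻¹ = x) (hne : H ≠ ⊤) :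
    ∃ i : G, i ∉ H ∧ i * i = 1 ∧ Odd (Nat.card (H ⊓ H.map (MulAut.conj i).toMonoidHom : Subgroup G)) ∧
      Nat.card H ≤ Nat.card (Subgroup.centralizer ({t} : Set G)) *
        Nat.card (H ⊓ H.map (MulAut.conj i).toMonoidHom : Subgroup G) := by
  classical
  by_contra hcon
  push Not at hcon
  -- intersections have odd order
  have hodd : ∀ i : G, i ∉ H →
      Odd (Nat.card (H ⊓ H.map (MulAut.conj i).toMonoidHom : Subgroup G)) := by
    intro i hi
    rw [← Nat.not_even_iff_odd, even_iff_two_dvd]
    intro h2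
    have : Fact (Nat.Prime 2) := ⟨Nat.prime_two⟩
    obtain ⟨⟨u, hu⟩, hu2⟩ := exists_prime_orderOf_dvd_card' 2 h2
    rw [Subgroup.orderOf_mk] at hu2
    obtain ⟨huH, w, hw, hwu⟩ := hu
    have hwu' : i * w * i⁻¹ = u := hwu
    have hu1 : u ≠ 1 := by
      intro h1; rw [h1, orderOf_one] at hu2; norm_num at hu2
    have huu : u * u = 1 := by
      have := pow_orderOf_eq_one u
      rw [hu2, sq] at this; exact this
    have hw' : w = i⁻¹ * u * i := by rw [← hwu']; group
    have hw1 : w ≠ 1 := by
      intro h1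
      apply hu1
      rw [← hwu', h1]; group
    have hww : w * w = 1 := by
      rw [hw']
      calc i⁻¹ * u * i * (i⁻¹ * u * i) = i⁻¹ * (u * u) * i := by group
        _ = 1 := by rw [huu]; group
    obtain ⟨h, hh, hhu⟩ := honeH u huH hu1 huu
    obtain ⟨k, hk, hkw⟩ := honeH w hw hw1 hww
    apply hi
    have hc : h⁻¹ * i * k ∈ Subgroup.centralizer ({t} : Set G) := by
      rw [Subgroup.mem_centralizer_singleton_iff]
      have e1 : i * (k * t * k⁻¹) * i⁻¹ = h * t * h⁻¹ := by rw [hkw, hwu', hhu]
      calc h⁻¹ * i * k * t = h⁻¹ * (i * (k * t * k⁻¹) * i⁻¹) * i * k := by group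
        _ = h⁻¹ * (h * t * h⁻¹) * i * k := by rw [e1]
        _ = _ := by group
    have h3 : i = h * (h⁻¹ * i * k) * k⁻¹ := by group
    rw [h3]
    exact H.mul_mem (H.mul_mem hh (hCH hc)) (H.inv_mem hk)
  -- the counting
  have hfG : Fintype G := Fintype.ofFinite G
  set c := Nat.card (Subgroup.centralizer ({t} : Set G)) with hc
  let I : Finset G := Finset.univ.filter (fun x => x ≠ 1 ∧ x * x = 1)
  have hI : I.card * c = Nat.card G := by
    have h1 := card_class t (⊤ : Subgroup G) le_top
    rw [Subgroup.card_top] at h1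
    rw [← h1, hc]
    congr 1
    symm
    apply Nat.subtype_card
    intro x
    rw [Finset.mem_filter]
    constructor
    · rintro ⟨-, h2, h3⟩
      obtain ⟨g, hg⟩ := hone x h2 h3
      exact ⟨g, Subgroup.mem_top g, hg⟩
    · rintro ⟨g, -, rfl⟩
      refine ⟨Finset.mem_univ _, ?_, ?_⟩
      · intro h2
        apply ht1
        calc t = g⁻¹ * (g * t * g⁻¹) * g := by group
          _ = 1 := by rw [h2]; group
      · calc g * t * g⁻¹ * (g * t * g⁻¹) = g * (t * t) * g⁻¹ := by group
          _ = 1 := by rw [htt]; group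
  have hIH : (I.filter (fun x => x ∈ H)).card * c = Nat.card H := by
    have h1 := card_class t H hCH
    rw [← h1, hc]
    congr 1
    symm
    apply Nat.subtype_card
    intro x
    rw [Finset.mem_filter, Finset.mem_filter]
    constructor
    · rintro ⟨⟨-, h2, h3⟩, h4⟩
      exact honeH x h4 h2 h3
    · rintro ⟨g, hg, rfl⟩
      refine ⟨⟨Finset.mem_univ _, ?_, ?_⟩, ?_⟩
      · intro h2
        apply ht1
        calc t = g⁻¹ * (g * t * g⁻¹) * g := by group
          _ = 1 := by rw [h2]; group
      · calc g * t * g⁻¹ * (g * t * g⁻¹) = g * (t * t) * g⁻¹ := by group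
          _ = 1 := by rw [htt]; group
      · exact H.mul_mem (H.mul_mem hg (hCH (Subgroup.mem_centralizer_singleton_iff.2 rfl)))
          (H.inv_mem hg)
  let J : Finset G := I.filter (fun x => x ∉ H)
  have hJ : J.card * c + Nat.card H = Nat.card G := by
    rw [← hI, ← hIH, ← add_mul]
    congr 1
    rw [add_comm]
    exact Finset.card_filter_add_card_filter_not (s := I) (fun x => x ∈ H)
  have hfQ : Fintype (G ⧸ H) := Fintype.ofFinite _
  have hmaps : ∀ x ∈ J, (QuotientGroup.mk x : G ⧸ H) ∈
      (Finset.univ.erase (QuotientGroup.mk 1 : G ⧸ H)) := by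
    intro x hx
    rw [Finset.mem_erase]
    refine ⟨?_, Finset.mem_univ _⟩
    intro h1
    rw [Finset.mem_filter] at hx
    apply hx.2
    have := QuotientGroup.eq.1 h1.symm
    simpa using this
  have hsum : J.card = ∑ q ∈ (Finset.univ.erase (QuotientGroup.mk 1 : G ⧸ H)),
      (J.filter (fun x => (QuotientGroup.mk x : G ⧸ H) = q)).card :=
    Finset.card_eq_sum_card_fiberwise hmaps
  have hHpos : 0 < Nat.card H := Nat.card_pos
  have hfib : ∀ q ∈ (Finset.univ.erase (QuotientGroup.mk 1 : G ⧸ H)),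
      (J.filter (fun x => (QuotientGroup.mk x : G ⧸ H) = q)).card * c < Nat.card H := by
    intro q _
    rcases (J.filter (fun x => (QuotientGroup.mk x : G ⧸ H) = q)).eq_empty_or_nonempty with h1 | ⟨i, hi⟩
    · rw [h1, Finset.card_empty, zero_mul]; exact hHpos
    · rw [Finset.mem_filter, Finset.mem_filter, Finset.mem_filter] at hi
      obtain ⟨⟨⟨-, hi1, hii⟩, hiH⟩, hiq⟩ := hi
      have h2 := hcon i hiH hii (hodd i hiH)
      have hinv : i⁻¹ = i := inv_eq_of_mul_eq_one_left hii
      have h3 : (J.filter (fun x => (QuotientGroup.mk x : G ⧸ H) = q)).card ≤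
          Nat.card (H ⊓ H.map (MulAut.conj i).toMonoidHom : Subgroup G) := by
        rw [← Nat.card_eq_finsetCard]
        have hmem : ∀ j : G, j ∈ J.filter (fun x => (QuotientGroup.mk x : G ⧸ H) = q) →
            i * j ∈ (H ⊓ H.map (MulAut.conj i).toMonoidHom : Subgroup G) := by
          intro j hj
          rw [Finset.mem_filter, Finset.mem_filter, Finset.mem_filter] at hj
          obtain ⟨⟨⟨-, hj1, hjj⟩, hjH⟩, hjq⟩ := hj
          have h4 : i⁻¹ * j ∈ H := QuotientGroup.eq.1 (hiq.trans hjq.symm)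
          rw [hinv] at h4
          refine ⟨h4, (i * j)⁻¹, H.inv_mem h4, ?_⟩
          show i * (i * j)⁻¹ * i⁻¹ = i * j
          have hjinv : j⁻¹ = j := inv_eq_of_mul_eq_one_left hjj
          rw [mul_inv_rev, hjinv, hinv]
          calc i * (j * i) * i = i * j * (i * i) := by group
            _ = i * j := by rw [hii, mul_one]
        apply Nat.card_le_card_of_injective (fun j => ⟨i * j, hmem j j.2⟩)
        intro a b hab
        apply Subtype.ext
        exact mul_left_cancel (congrArg Subtype.val hab)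
      calc _ ≤ Nat.card (H ⊓ H.map (MulAut.conj i).toMonoidHom : Subgroup G) * c :=
            Nat.mul_le_mul_right _ h3
        _ = c * Nat.card (H ⊓ H.map (MulAut.conj i).toMonoidHom : Subgroup G) := mul_comm _ _
        _ < _ := h2
  have hidx : 1 < Fintype.card (G ⧸ H) := by
    have h1 : Fintype.card (G ⧸ H) = H.index := by
      rw [Subgroup.index, Nat.card_eq_fintype_card]
    rw [h1]
    have h2 : H.index ≠ 1 := fun h => hne (Subgroup.index_eq_one.1 h)
    have h3 : H.index ≠ 0 := Subgroup.index_ne_zero_of_finite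
    omega
  have hne' : (Finset.univ.erase (QuotientGroup.mk 1 : G ⧸ H)).Nonempty := by
    rw [← Finset.card_pos, Finset.card_erase_of_mem (Finset.mem_univ _), Finset.card_univ]
    omega
  have hlt : J.card * c < (Fintype.card (G ⧸ H) - 1) * Nat.card H := by
    rw [hsum, Finset.sum_mul]
    calc _ < ∑ q ∈ (Finset.univ.erase (QuotientGroup.mk 1 : G ⧸ H)), Nat.card H :=
          Finset.sum_lt_sum_of_nonempty hne' hfib
      _ = _ := by
          rw [Finset.sum_const, Finset.card_erase_of_mem (Finset.mem_univ _), Finset.card_univ,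
            smul_eq_mul]
  have hGH : Nat.card G = Fintype.card (G ⧸ H) * Nat.card H := by
    rw [← Nat.card_eq_fintype_card]
    exact Subgroup.card_eq_card_quotient_mul_card_subgroup H
  have h5 : (Fintype.card (G ⧸ H) - 1) * Nat.card H + Nat.card H = Nat.card G := by
    rw [hGH]
    obtain ⟨m, hm⟩ : ∃ m, Fintype.card (G ⧸ H) = m + 1 := ⟨Fintype.card (G ⧸ H) - 1, by omega⟩
    rw [hm, Nat.add_sub_cancel, add_mul, one_mul]
  omega

/-- an element normalising a subgroup of prime order `p`, of order prime to `p - 1`, centralises it -/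
theorem comm_of_coprime {p : ℕ} (hp : p.Prime) (P : Subgroup G) (hP : Nat.card P = p) (x : G)
    (hx : x ∈ Subgroup.normalizer (P : Set G)) (hcop : (orderOf x).Coprime (p - 1)) (y : G) (hy : y ∈ P) :
    x * y = y * x := by
  have : Fact p.Prime := ⟨hp⟩
  have hfin : Finite P := Nat.finite_of_card_ne_zero (by rw [hP]; exact hp.ne_zero)
  let f : Subgroup.normalizer (P : Set G) →* MulAut P := Subgroup.normalizerMonoidHom P
  have hcyc : IsCyclic P := isCyclic_of_prime_card hP
  have h1 : Nat.card (MulAut P) = p - 1 := by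
    rw [IsCyclic.card_mulAut, hP, Nat.totient_prime hp]
  have h2 : orderOf (f ⟨x, hx⟩) ∣ p - 1 := by
    rw [← h1]; exact orderOf_dvd_natCard _
  have h3 : orderOf (f ⟨x, hx⟩) ∣ orderOf x := by
    have := orderOf_map_dvd f ⟨x, hx⟩
    rwa [Subgroup.orderOf_mk] at this
  have h4 : orderOf (f ⟨x, hx⟩) = 1 := Nat.eq_one_of_dvd_coprimes hcop h3 h2
  rw [orderOf_eq_one_iff] at h4
  have h5 := congrArg (fun a => ((a ⟨y, hy⟩ : P) : G)) h4
  have h6 : x * y * x⁻¹ = y := h5
  exact mul_inv_eq_iff_eq_mul.1 h6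

/-- A group of odd order `17 · 19 · m`, `m` prime to 17 and 19, has commuting elements of orders 17 and 19. -/
theorem exists_comm_17_19 {D : Type*} [Group D] [Finite D] (hodd : Odd (Nat.card D)) (m : ℕ)
    (hm : Nat.card D = 17 * 19 * m) (h17 : Nat.Coprime 17 m) (h19 : Nat.Coprime 19 m) :
    ∃ x y : D, orderOf x = 17 ∧ orderOf y = 19 ∧ x * y = y * x := by
  have f17 : Fact (Nat.Prime 17) := ⟨by norm_num⟩
  have f19 : Fact (Nat.Prime 19) := ⟨by norm_num⟩
  have hmpos : m ≠ 0 := by
    rintro rfl; rw [mul_zero] at hm; exact Nat.card_pos.ne' hm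
  -- Sylow 17
  obtain ⟨P⟩ : Nonempty (Sylow 17 D) := inferInstance
  have hPcard : Nat.card P = 17 := by
    rw [Sylow.card_eq_multiplicity, hm]
    have : (17 * 19 * m).factorization 17 = 1 := by
      rw [mul_assoc, Nat.factorization_mul (by norm_num) (by positivity)]
      rw [Finsupp.add_apply, Nat.Prime.factorization_self (by norm_num)]
      rw [Nat.factorization_eq_zero_of_not_dvd]
      intro h
      have h1 : Nat.Coprime 17 (19 * m) := Nat.Coprime.mul_right (by norm_num) h17
      have := Nat.eq_one_of_dvd_coprimes h1 dvd_rfl h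
      omega
    rw [this, pow_one]
  have hPN : Subgroup.normalizer ((P : Subgroup D) : Set D) ≤ Subgroup.centralizer ((P : Subgroup D) : Set D) := by
    intro x hx
    rw [Subgroup.mem_centralizer_iff]
    intro y hy
    symm
    refine comm_of_coprime (by norm_num : Nat.Prime 17) (P : Subgroup D) hPcard x hx ?_ y hy
    have h1 : Odd (orderOf x) := Odd.of_dvd_nat hodd (orderOf_dvd_natCard x)
    rw [show 17 - 1 = 2 ^ 4 by norm_num]
    exact Nat.Coprime.pow_right _ (Nat.coprime_two_right.2 h1)
  have hcompl := MonoidHom.ker_transferSylow_isComplement' P hPN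
  let K := (MonoidHom.transferSylow P hPN).ker
  have hKcard : Nat.card K * 17 = Nat.card D := by
    have := hcompl.card_mul_card
    rwa [hPcard] at this
  have hKcard' : Nat.card K = 19 * m := by
    have : Nat.card K * 17 = (19 * m) * 17 := by rw [hKcard, hm]; ring
    exact Nat.eq_of_mul_eq_mul_right (by norm_num) this
  obtain ⟨Q⟩ : Nonempty (Sylow 19 K) := inferInstance
  have hQcard : Nat.card Q = 19 := by
    rw [Sylow.card_eq_multiplicity, hKcard']
    have : (19 * m).factorization 19 = 1 := by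
      rw [Nat.factorization_mul (by norm_num) hmpos]
      rw [Finsupp.add_apply, Nat.Prime.factorization_self (by norm_num)]
      rw [Nat.factorization_eq_zero_of_not_dvd]
      intro h
      have := Nat.eq_one_of_dvd_coprimes h19 dvd_rfl h
      omega
    rw [this, pow_one]
  have hfr := Sylow.normalizer_sup_eq_top Q
  -- 17 divides the order of the normaliser of Q
  let N := Subgroup.normalizer (((Q : Subgroup K).map K.subtype : Subgroup D) : Set D)
  have hdvd : 17 ∣ Nat.card N := by
    have h1 : K.relIndex N = 17 := by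
      rw [← Subgroup.relIndex_sup_right N K, show N ⊔ K = ⊤ from hfr, Subgroup.relIndex_top_right]
      have := K.card_mul_index
      have h2 : Nat.card K * K.index = Nat.card K * 17 := by rw [this, hKcard]
      exact Nat.eq_of_mul_eq_mul_left Nat.card_pos h2
    rw [← h1]
    exact Subgroup.relIndex_dvd_card K N
  obtain ⟨⟨x, hx⟩, hx17⟩ := exists_prime_orderOf_dvd_card' (G := N) 17 hdvd
  rw [Subgroup.orderOf_mk] at hx17
  obtain ⟨⟨⟨y, hyK⟩, hyQ⟩, hy19⟩ := exists_prime_orderOf_dvd_card' (G := Q) 19 (by rw [hQcard])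
  rw [Subgroup.orderOf_mk, Subgroup.orderOf_mk] at hy19
  refine ⟨x, y, hx17, hy19, ?_⟩
  have hcardQ' : Nat.card ((Q : Subgroup K).map K.subtype : Subgroup D) = 19 := by
    have h1 := Nat.card_congr
      ((Q : Subgroup K).equivMapOfInjective K.subtype K.subtype_injective).toEquiv
    exact h1.symm.trans hQcard
  exact comm_of_coprime (by norm_num : Nat.Prime 19) _ hcardQ' x hx (by rw [hx17]; norm_num) y
    ⟨⟨y, hyK⟩, hyQ, rfl⟩

/-- **Closing step for J3**. -/
theorem eq_top [Finite G] (t : G) (ht1 : t ≠ 1) (htt : t * t = 1) (H : Subgroup G)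
    (hcard : Nat.card (Subgroup.centralizer ({t} : Set G)) = 1920)
    (hCH : Subgroup.centralizer ({t} : Set G) ≤ H)
    (hone : ∀ x : G, x ≠ 1 → x * x = 1 → ∃ g : G, g * t * g⁻¹ = x)
    (honeH : ∀ x ∈ H, x ≠ 1 → x * x = 1 → ∃ g ∈ H, g * t * g⁻¹ = x)
    (hH : Nat.card H = 50232960)
    (hcomm : ∀ x ∈ H, ∀ y ∈ H, orderOf x = 17 → orderOf y = 19 → x * y ≠ y * x) : H = ⊤ := by
  by_contra hne
  obtain ⟨i, -, -, hodd, hle⟩ := exists_large_inf t ht1 htt H hCH hone honeH hne
  set D := (H ⊓ H.map (MulAut.conj i).toMonoidHom : Subgroup G) with hD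
  rw [hcard, hH] at hle
  have hdvd : Nat.card D ∣ 50232960 := by
    rw [← hH]; exact Subgroup.card_dvd_of_le inf_le_left
  obtain ⟨k, hk⟩ := hdvd
  -- the odd divisor
  have hdvd' : Nat.card D ∣ 392445 := by
    have h1 : Nat.card D ∣ 2 ^ 7 * 392445 := ⟨k, by rw [← hk]; norm_num⟩
    have h2 : Nat.Coprime (Nat.card D) (2 ^ 7) :=
      Nat.Coprime.pow_right _ (Nat.coprime_two_right.2 hodd)
    exact h2.dvd_of_dvd_mul_left h1
  obtain ⟨l, hl⟩ := hdvd'
  have hl15 : l ≤ 15 := by
    by_contra h
    have : 16 ≤ l := by omega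
    nlinarith
  have hcases : ∃ m, Nat.card D = 17 * 19 * m ∧ Nat.Coprime 17 m ∧ Nat.Coprime 19 m := by
    have hlpos : l ≠ 0 := by rintro rfl; omega
    have : l = 1 ∨ l = 3 ∨ l = 5 ∨ l = 9 ∨ l = 15 := by
      interval_cases l <;> omega
    rcases this with rfl | rfl | rfl | rfl | rfl
    · exact ⟨1215, by omega, by norm_num, by norm_num⟩
    · exact ⟨405, by omega, by norm_num, by norm_num⟩
    · exact ⟨243, by omega, by norm_num, by norm_num⟩
    · exact ⟨135, by omega, by norm_num, by norm_num⟩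
    · exact ⟨81, by omega, by norm_num, by norm_num⟩
  obtain ⟨m, hm, h17, h19⟩ := hcases
  obtain ⟨x, y, hx, hy, hxy⟩ := exists_comm_17_19 hodd m hm h17 h19
  refine hcomm (x : G) x.2.1 (y : G) y.2.1 ?_ ?_ (congrArg Subtype.val hxy)
  · rw [Subgroup.orderOf_coe]; exact hx
  · rw [Subgroup.orderOf_coe]; exact hy

end Cfsg.Agent.J3Type.Closing
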