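import Mathlib
set_option linter.all false

/-!
# A computation in `A₆`

Project P16, J3 cluster: the involutions inverting `x` and having product of order 3 with `z`, in the standard
configuration of two subgroups `S₄` of `A₆` intersecting in a dihedral group of order 8.
-/

set_option autoImplicit false

namespace Cfsg.Agent.J3Type.ASix

open Equiv

def z0 : Perm (Fin 6) := swap 0 1 * swap 2 3

theorem exists_conj_z0 : ∀ z : Perm (Fin 6), (z * z = 1 ∧ z ≠ 1 ∧ Perm.sign z = 1) →
    ∃ g : Perm (Fin 6), g * z = z0 * g := by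
  decide +kernel

set_option synthInstance.maxHeartbeats 0 in
set_option synthInstance.maxSize 10000 in
set_option maxRecDepth 10000 in
theorem two_z0 : ∀ s : Perm (Fin 6), (s * s = 1 ∧ s * z0 = z0 * s ∧ Perm.sign s = 1) →
    ∀ y : Perm (Fin 6), (y * y = 1 ∧ s * y * (s * y) = z0) →
    ∀ x : Perm (Fin 6), (x * z0 = y * x ∧ x * s * x = s ∧ x * x * x = 1) →
    ∀ v : Perm (Fin 6), (v * z0 = s * v ∧ v * y * v = y ∧ v * v * v = 1) →
    ∀ w : Perm (Fin 6), (w * w = 1 ∧ x * w * x = w ∧ w * z0 * (w * z0) * (w * z0) = 1 ∧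
      Perm.sign w = 1) →
    w = z0 * (v * v) * (x * x) * v ∨ w = s * y * v * x * v := by
  decide +kernel

theorem two {z s y x v w : Perm (Fin 6)} (hz : Perm.sign z = 1) (hs : Perm.sign s = 1)
    (hw : Perm.sign w = 1) (hz1 : z ≠ 1) (hz2 : z * z = 1) (hs2 : s * s = 1) (hsz : s * z = z * s)
    (hy2 : y * y = 1) (hsy : s * y * (s * y) = z) (hxz : x * z = y * x) (hxs : x * s * x = s)
    (hx3 : x * x * x = 1) (hvz : v * z = s * v) (hvy : v * y * v = y) (hv3 : v * v * v = 1)
    (hw2 : w * w = 1) (hxw : x * w * x = w) (hwz : w * z * (w * z) * (w * z) = 1) :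
    w = z * (v * v) * (x * x) * v ∨ w = s * y * v * x * v := by
  obtain ⟨g, hg⟩ := exists_conj_z0 z ⟨hz2, hz1, hz⟩
  -- conjugate by g
  let φ : Perm (Fin 6) ≃* Perm (Fin 6) := MulAut.conj g
  have hφz : φ z = z0 := by
    show g * z * g⁻¹ = z0
    rw [hg, mul_assoc, mul_inv_cancel, mul_one]
  have hsign : ∀ a, Perm.sign (φ a) = Perm.sign a := by
    intro a
    show Perm.sign (g * a * g⁻¹) = _
    rw [Perm.sign_mul, Perm.sign_mul, Perm.sign_inv, mul_comm, ← mul_assoc, Int.units_mul_self, one_mul]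
  have key := two_z0 (φ s) ⟨by rw [← map_mul, hs2, map_one],
      by rw [← hφz, ← map_mul, ← map_mul, hsz], by rw [hsign, hs]⟩
    (φ y) ⟨by rw [← map_mul, hy2, map_one], by rw [← hφz, ← map_mul, ← map_mul, hsy]⟩
    (φ x) ⟨by rw [← hφz, ← map_mul, ← map_mul, hxz], by rw [← map_mul, ← map_mul, hxs],
      by rw [← map_mul, ← map_mul, hx3, map_one]⟩
    (φ v) ⟨by rw [← hφz, ← map_mul, ← map_mul, hvz], by rw [← map_mul, ← map_mul, hvy],
      by rw [← map_mul, ← map_mul, hv3, map_one]⟩
    (φ w) ⟨by rw [← map_mul, hw2, map_one], by rw [← map_mul, ← map_mul, hxw],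
      by rw [← hφz, ← map_mul, ← map_mul, ← map_mul, hwz, map_one], by rw [hsign, hw]⟩
  rcases key with h | h
  · left
    apply φ.injective
    rw [h, ← hφz]
    simp only [map_mul]
  · right
    apply φ.injective
    rw [h]
    simp only [map_mul]

end Cfsg.Agent.J3Type.ASix
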