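import Mathlib
import Cfsg.Agent.J2Type.COdd
import Cfsg.Agent.SporadicB.DihedralLift
set_option linter.all false

/-!
# The centraliser of an element of order 3 in a group with a signed permutation model

Project P16, J3 cluster.
-/

set_option autoImplicit false
set_option linter.unusedSectionVars false

namespace Cfsg.Agent.J3Type.CThree

open Cfsg.Agent.J2Type.Model Cfsg.Agent.J2Type.SPFacts Cfsg.Agent.J2Type.CStruct
open Cfsg.Agent.J2Type.COdd

variable {C : Type*} [Group C] [Finite C] {Q : Subgroup C} {z : C} {v : Fin 5 → C} {ρ : C →* SP}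

theorem comm_v (M : IsModel Q z v ρ) {c3 : C} (h3 : ρ c3 = g3) {i : Fin 5} (hs : g3.s i = 0)
    (hi : g3.σ i = i) : v i * c3 = c3 * v i := by
  have h := M.conj c3 i
  rw [h3, hs, hi, zp_zero, one_mul] at h
  calc v i * c3 = c3 * v i * c3⁻¹ * c3 := by rw [h]
    _ = c3 * v i := by group

/-- The centraliser of an element of order 3 is `D₈ × 3`. -/
theorem exists_D (M : IsModel Q z v ρ) (hcard : Nat.card C = 1920) {g : C} (hg : orderOf g = 3) :
    ∃ D : Subgroup C, Nonempty (D ≃* DihedralGroup 4) ∧ (∀ d ∈ D, d * g = g * d) ∧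
      ∀ c : C, c * g = g * c → ∃ d ∈ D, ∃ k : ℕ, c = d * g ^ k := by
  classical
  obtain ⟨c3, h3, h33⟩ := exists_odd_lift M (n := 3) (by decide) g3_E g3_pow3
  obtain ⟨k, hk⟩ := conj_three M hcard hg h3 h33
  have hgk : g = k⁻¹ * c3 * k := by rw [← hk]; group
  have c1 : v 3 * c3 = c3 * v 3 := comm_v M h3 (by decide) (by decide)
  have c2 : v 4 * c3 = c3 * v 4 := comm_v M h3 (by decide) (by decide)
  have o3 : ∀ i, orderOf (k⁻¹ * v i * k) = 2 := by
    intro i
    rw [orderOf_eq_prime_iff]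
    constructor
    · rw [pow_two]
      calc k⁻¹ * v i * k * (k⁻¹ * v i * k) = k⁻¹ * (v i * v i) * k := by group
        _ = 1 := by rw [M.v_sq]; group
    · intro h
      have : v i = 1 := by
        calc v i = k * (k⁻¹ * v i * k) * k⁻¹ := by group
          _ = 1 := by rw [h]; group
      exact v_ne_one M i 0 (by rw [zp_zero, one_mul]; exact this)
  have o4 : orderOf ((k⁻¹ * v 3 * k) * (k⁻¹ * v 4 * k)) = 4 := by
    have e1 : (k⁻¹ * v 3 * k) * (k⁻¹ * v 4 * k) = k⁻¹ * (v 3 * v 4) * k := by group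
    have e2 : (k⁻¹ * (v 3 * v 4) * k) ^ 2 = z := by
      rw [pow_two]
      calc k⁻¹ * (v 3 * v 4) * k * (k⁻¹ * (v 3 * v 4) * k) = k⁻¹ * ((v 3 * v 4) * (v 3 * v 4)) * k := by
            group
        _ = k⁻¹ * (z * k) := by rw [vv_sq M (by decide : (3 : Fin 5) ≠ 4), mul_assoc]
        _ = z := by rw [← M.z_comm]; group
    rw [e1]
    have h2 : Fact (Nat.Prime 2) := ⟨Nat.prime_two⟩
    apply orderOf_eq_prime_pow (p := 2) (n := 1)
    · rw [pow_one, e2]; exact M.z_ne
    · rw [show 2 ^ (1 + 1) = 2 * 2 by norm_num, pow_mul, e2, pow_two, M.z_sq]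
  obtain ⟨e⟩ := Cfsg.Agent.SporadicB.DihedralLift.closure_pair_equiv_dihedral' (o3 3) (o3 4) o4
  have hcomm : ∀ d ∈ Subgroup.closure ({k⁻¹ * v 3 * k, k⁻¹ * v 4 * k} : Set C), d * g = g * d := by
    intro d hd
    have hle : Subgroup.closure ({k⁻¹ * v 3 * k, k⁻¹ * v 4 * k} : Set C) ≤
        Subgroup.centralizer ({g} : Set C) := by
      rw [Subgroup.closure_le]
      intro x hx
      rw [SetLike.mem_coe, Subgroup.mem_centralizer_singleton_iff]
      rcases hx with rfl | rfl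
      · rw [hgk]
        calc k⁻¹ * v 3 * k * (k⁻¹ * c3 * k) = k⁻¹ * (v 3 * c3) * k := by group
          _ = k⁻¹ * (c3 * v 3) * k := by rw [c1]
          _ = _ := by group
      · rw [hgk]
        calc k⁻¹ * v 4 * k * (k⁻¹ * c3 * k) = k⁻¹ * (v 4 * c3) * k := by group
          _ = k⁻¹ * (c3 * v 4) * k := by rw [c2]
          _ = _ := by group
    exact Subgroup.mem_centralizer_singleton_iff.mp (hle hd)
  refine ⟨Subgroup.closure ({k⁻¹ * v 3 * k, k⁻¹ * v 4 * k} : Set C), ⟨e⟩, hcomm, ?_⟩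
  set D := Subgroup.closure ({k⁻¹ * v 3 * k, k⁻¹ * v 4 * k} : Set C) with hD
  set K := Subgroup.centralizer ({g} : Set C) with hK
  have memK : ∀ x : C, x ∈ K ↔ x * g = g * x := fun x => Subgroup.mem_centralizer_singleton_iff
  have hDK : D ≤ K := fun d hd => (memK d).mpr (hcomm d hd)
  have hgK : g ∈ K := (memK g).mpr rfl
  have hZK : Subgroup.zpowers g ≤ K := by rw [Subgroup.zpowers_le]; exact hgK
  have hcK : Nat.card K = 24 := by
    rw [← card_cent_three M hcard hg]
    exact Nat.card_congr (Equiv.subtypeEquivRight memK)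
  have hcD : Nat.card (D.subgroupOf K) = 8 := by
    rw [Nat.card_congr (Subgroup.subgroupOfEquivOfLe hDK).toEquiv, Nat.card_congr e.toEquiv,
      DihedralGroup.nat_card]
  have hcZ : Nat.card ((Subgroup.zpowers g).subgroupOf K) = 3 := by
    rw [Nat.card_congr (Subgroup.subgroupOfEquivOfLe hZK).toEquiv, Nat.card_zpowers, hg]
  have hcompl := Subgroup.isComplement'_of_coprime (H := D.subgroupOf K)
    (K := (Subgroup.zpowers g).subgroupOf K) (by rw [hcD, hcZ, hcK]) (by rw [hcD, hcZ]; norm_num)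
  intro c hc
  obtain ⟨⟨⟨d, hd⟩, ⟨u, hu⟩⟩, hdu⟩ := hcompl.2 ⟨c, (memK c).mpr hc⟩
  have hdu' : (d : C) * (u : C) = c := congrArg Subtype.val hdu
  have hu' : (u : C) ∈ Subgroup.zpowers g := hu
  obtain ⟨n, hn⟩ := mem_powers_iff_mem_zpowers.mpr hu'
  exact ⟨d, hd, n, by rw [← hdu', ← hn]⟩

/-- Every element of order 3 is inverted by some element. -/
theorem exists_inverting (M : IsModel Q z v ρ) (hcard : Nat.card C = 1920) {g : C}
    (hg : orderOf g = 3) : ∃ n : C, n * g * n⁻¹ = g⁻¹ := by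
  obtain ⟨n, hn⟩ := three_conj M hcard hg (c' := g⁻¹) (by rw [orderOf_inv]; exact hg)
  exact ⟨n, hn⟩

end Cfsg.Agent.J3Type.CThree
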