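import Cfsg.Agent.J3Type.OneClass
import Cfsg.Agent.J2Type.ModelExists
import Cfsg.Agent.J2Type.Fusion
set_option linter.all false

/-!
# From the printed hypotheses to `HasModel` (helper940, after helper941)
-/

set_option autoImplicit false

namespace Cfsg.Agent.J3Type.HasModelOf

open Cfsg.Agent.J2Type.Model Cfsg.Agent.J2Type.SPFacts Cfsg.Agent.J2Type.CStruct
open Cfsg.Agent.J3Type.OneClass

theorem hasModel {G : Type*} [Group G] [Finite G] (t : G) (ht : orderOf t = 2)
    (Q : Subgroup (Subgroup.centralizer ({t} : Set G))) [Q.Normal] (hQ : Cfsg.IsExtraspecial 2 Q)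
    (hcard : Nat.card Q = 32)
    (h2c : Subgroup.centralizer (Q : Set (Subgroup.centralizer ({t} : Set G))) ≤ Q)
    (e : (Subgroup.centralizer ({t} : Set G)) ⧸ Q ≃* alternatingGroup (Fin 5)) : HasModel t := by
  have h60 : Nat.card ((Subgroup.centralizer ({t} : Set G)) ⧸ Q) = 60 := by
    rw [Nat.card_congr e.toEquiv, Nat.card_eq_fintype_card]
    rfl
  obtain ⟨z', v, ρ, M⟩ := Cfsg.Agent.J2Type.ModelExists.exists_model Q hQ hcard h2c h60
  have h1920 : Nat.card (Subgroup.centralizer ({t} : Set G)) = 1920 := by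
    have := Subgroup.card_eq_card_quotient_mul_card_subgroup Q
    rw [h60, hcard] at this
    omega
  have ht1 : t ≠ 1 := by
    rintro rfl
    rw [orderOf_one] at ht
    omega
  have hz' : z' = zc t := by
    rcases Cfsg.Agent.J2Type.Fusion.eq_of_comm_v M (c := zc t)
      (fun i => Subtype.ext (Subgroup.mem_centralizer_singleton_iff.1 (v i).2).symm) with h | h
    · exfalso
      exact ht1 (congrArg Subtype.val h)
    · exact h.symm
  subst hz'
  exact ⟨ht, h1920, Q, v, ρ, M⟩

end Cfsg.Agent.J3Type.HasModelOf
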