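import Mathlib
set_option linter.all false

-- part: J3Type/CharSearch
section
/-!
# A verified two-dimensional search

Kernel-friendly search functions for the degree equation of the character-theoretic computation of the
order of Janko's third group, with their soundness.  All functions are written with the raw
functions on natural numbers, so that the kernel evaluates them quickly.
-/

set_option autoImplicit false

namespace Cfsg.Agent.J3Type.CharSearch

/-- final filter: `n / d` is the candidate for `j`. -/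
def fin (n d X Y Z S : ℕ) : Bool :=
  Bool.rec true
    ((fun j => Bool.rec true (Nat.beq j 26163)
       (and (Nat.beq (Nat.mod j 128) 51) (and (Nat.ble (Nat.succ S) (Nat.mul 1920 j))
        (and (Nat.beq (Nat.mod (Nat.mul 1920 j) X) 0)
        (and (Nat.beq (Nat.mod (Nat.mul 1920 j) Y) 0)
          (Nat.beq (Nat.mod (Nat.mul 1920 j) Z) 0)))))) (Nat.div n d))
            (Nat.beq (Nat.mod n d) 0)

/-- one step of the inner loop, case `x > 0`; `k` is the continuation. -/
def stepP (K q a b c X Y : ℕ) (k : Bool) : Bool :=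
  (fun Z p w S =>
    Bool.rec
      (Bool.rec
        (Bool.rec
          (Bool.rec false k
            (fin (Nat.mul q (Nat.mul p Z)) (Nat.sub (Nat.mul p (Nat.add Z c)) (Nat.mul Z w)) X Y Z S))
          k (Nat.ble (Nat.mul p (Nat.add Z c)) (Nat.mul Z w)))
        true (Nat.ble (Nat.add (Nat.mul X c) p) (Nat.mul a Y)))
      true (Nat.ble (Nat.add (Nat.mul w S) (Nat.mul K p)) (Nat.mul p S)))
    (Nat.sub (Nat.add X Y) 1) (Nat.mul X Y) (Nat.add (Nat.mul b X) (Nat.mul a Y))
    (Nat.add (Nat.mul X X) (Nat.add (Nat.mul Y Y)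
      (Nat.mul (Nat.sub (Nat.add X Y) 1) (Nat.sub (Nat.add X Y) 1))))

/-- inner loop, case `x > 0` -/
def goYP (K q a b c X : ℕ) (fuel : ℕ) : ℕ → Bool :=
  Nat.rec (fun _ => false) (fun _ ih Y => stepP K q a b c X Y (ih (Nat.add Y 128))) fuel

/-- stop condition of the outer loop, case `x > 0` -/
def stopXP (K a b X : ℕ) : Bool :=
  (fun S => Nat.ble (Nat.add (Nat.mul (Nat.add a b) S) (Nat.mul X K)) (Nat.mul X S))
  (Nat.add (Nat.mul X X) (Nat.add (Nat.mul X X)
    (Nat.mul (Nat.sub (Nat.add X X) 1) (Nat.sub (Nat.add X X) 1))))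

/-- first number `≥ X` congruent to `r` modulo 128 -/
def firstY (r X : ℕ) : ℕ := Nat.add X (Nat.mod (Nat.sub (Nat.add r 128) (Nat.mod X 128)) 128)

/-- outer loop, case `x > 0` -/
def goXP (K q f a b c rb : ℕ) (fuel : ℕ) : ℕ → Bool :=
  Nat.rec (fun _ => false) (fun _ ih X =>
    Bool.rec (and (goYP K q a b c X f (firstY rb X)) (ih (Nat.add X 128))) true (stopXP K a b X)) fuel

/-- one step of the inner loop, case `x < 0`; here `Y` is the absolute value of the negative one. -/
def stepN (K q a b c X Y : ℕ) (k : Bool) : Bool :=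
  (fun Z p S =>
    Bool.rec
      (Bool.rec
          (Bool.rec false k
            (fin (Nat.mul q (Nat.mul p Z))
              (Nat.sub (Nat.add (Nat.mul p Z) (Nat.mul Z (Nat.add (Nat.mul a Y) (Nat.mul c X))))
                (Nat.mul b p)) X Y Z S))
          k (Nat.ble (Nat.add (Nat.mul p Z) (Nat.mul Z (Nat.add (Nat.mul a Y) (Nat.mul c X)))) (Nat.mul b p)))
      true (Nat.ble (Nat.mul X (Nat.add (Nat.mul b S) (Nat.mul K Y)))
        (Nat.mul (Nat.add X a) (Nat.mul Y S))))
    (Nat.add (Nat.add X Y) 1) (Nat.mul X Y)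
    (Nat.add (Nat.mul X X) (Nat.add (Nat.mul Y Y)
      (Nat.mul (Nat.add (Nat.add X Y) 1) (Nat.add (Nat.add X Y) 1))))

/-- inner loop, case `x < 0` -/
def goYN (K q a b c X : ℕ) (fuel : ℕ) : ℕ → Bool :=
  Nat.rec (fun _ => false) (fun _ ih Y => stepN K q a b c X Y (ih (Nat.add Y 128))) fuel

/-- stop condition of the outer loop, case `x < 0` -/
def stopXN (K b X : ℕ) : Bool :=
  (fun S => Nat.ble (Nat.add (Nat.mul b S) (Nat.mul X K)) (Nat.mul X S))
  (Nat.add (Nat.mul X X) (Nat.add (Nat.mul X X)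
    (Nat.mul (Nat.add (Nat.add X X) 1) (Nat.add (Nat.add X X) 1))))

/-- outer loop, case `x < 0` -/
def goXN (K q f a b c rc : ℕ) (fuel : ℕ) : ℕ → Bool :=
  Nat.rec (fun _ => false) (fun _ ih X =>
    Bool.rec (and (goYN K q a b c X f (firstY rc X)) (ih (Nat.add X 128))) true (stopXN K b X)) fuel

/-! ### Soundness -/

theorem beq_of_eq {m n : ℕ} (h : m = n) : Nat.beq m n = true := by
  rw [Nat.beq_eq]; exact h

theorem beq_of_ne {m n : ℕ} (h : m ≠ n) : Nat.beq m n = false := by
  rcases hb : Nat.beq m n with _ | _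
  · rfl
  · exact absurd (Nat.eq_of_beq_eq_true hb) h

theorem ble_of_le {m n : ℕ} (h : m ≤ n) : Nat.ble m n = true := Nat.ble_eq_true_of_le h

theorem ble_of_lt {m n : ℕ} (h : n < m) : Nat.ble m n = false := by
  rcases hb : Nat.ble m n with _ | _
  · rfl
  · exact absurd (Nat.le_of_ble_eq_true hb) (Nat.not_le_of_lt h)

theorem fin_sound {n d X Y Z S j : ℕ} (h : fin n d X Y Z S = true) (hd : 0 < d) (hj : j * d = n)
    (h51 : j % 128 = 51) (hS : S < 1920 * j) (hX : X ∣ 1920 * j) (hY : Y ∣ 1920 * j)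
    (hZ : Z ∣ 1920 * j) : j = 26163 := by
  have h1 : Nat.div n d = j := by rw [← hj]; exact Nat.mul_div_cancel j hd
  have h2 : Nat.mod n d = 0 := by rw [← hj]; exact Nat.mul_mod_left j d
  unfold fin at h
  rw [beq_of_eq h2, h1] at h
  beta_reduce at h
  rw [beq_of_eq (show Nat.mod j 128 = 51 from h51),
    ble_of_le (show Nat.succ S ≤ Nat.mul 1920 j from hS),
    beq_of_eq (show Nat.mod (Nat.mul 1920 j) X = 0 from Nat.mod_eq_zero_of_dvd hX),
    beq_of_eq (show Nat.mod (Nat.mul 1920 j) Y = 0 from Nat.mod_eq_zero_of_dvd hY),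
    beq_of_eq (show Nat.mod (Nat.mul 1920 j) Z = 0 from Nat.mod_eq_zero_of_dvd hZ)] at h
  exact Nat.eq_of_beq_eq_true h

/-- the solutions searched for in case `x > 0` -/
structure SolP (q a b c X Y Z j : ℕ) : Prop where
  hX : 0 < X
  hXY : X ≤ Y
  hZ : Z + 1 = X + Y
  eq : j * (X * Y * (Z + c)) = q * (X * Y * Z) + j * (Z * (b * X + a * Y))
  h51 : j % 128 = 51
  hS : X * X + (Y * Y + Z * Z) < 1920 * j
  dX : X ∣ 1920 * j
  dY : Y ∣ 1920 * j
  dZ : Z ∣ 1920 * j

/-- the solutions searched for in case `x < 0` -/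
structure SolN (q a b c X Y Z j : ℕ) : Prop where
  hX : 0 < X
  hXY : X ≤ Y
  hZ : Z = X + Y + 1
  eq : j * (X * Y * Z + Z * (a * Y + c * X)) = q * (X * Y * Z) + j * (b * (X * Y))
  h51 : j % 128 = 51
  hS : X * X + (Y * Y + Z * Z) < 1920 * j
  dX : X ∣ 1920 * j
  dY : Y ∣ 1920 * j
  dZ : Z ∣ 1920 * j

theorem mono_real {X Y0 Y S0 S a b K : ℝ} (hX : 0 < X) (hY0 : 0 < Y0) (hY : Y0 ≤ Y) (hS0 : 0 < S0)
    (hS : S0 ≤ S) (hb : 0 ≤ b) (hK : 0 ≤ K)
    (h : (b * X + a * Y0) * S0 + K * (X * Y0) ≤ X * Y0 * S0) :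
    (b * X + a * Y) * S + K * (X * Y) ≤ X * Y * S := by
  have hYp : 0 < Y := lt_of_lt_of_le hY0 hY
  have hSp : 0 < S := lt_of_lt_of_le hS0 hS
  have h1 : b / Y0 + a / X + K / S0 ≤ 1 := by
    have e : b / Y0 + a / X + K / S0 = ((b * X + a * Y0) * S0 + K * (X * Y0)) / (X * Y0 * S0) := by
      field_simp
    rw [e, div_le_one (by positivity)]
    exact h
  have h2 : b / Y ≤ b / Y0 := div_le_div_of_nonneg_left hb hY0 hY
  have h3 : K / S ≤ K / S0 := div_le_div_of_nonneg_left hK hS0 hS
  have h4 : b / Y + a / X + K / S ≤ 1 := by linarith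
  have e : b / Y + a / X + K / S = ((b * X + a * Y) * S + K * (X * Y)) / (X * Y * S) := by
    field_simp
  rw [e, div_le_one (by positivity)] at h4
  exact h4

/-- the first stop condition excludes solutions -/
theorem SolP.not_stop1 {K q a b c X Y Z j : ℕ} (hK : K = 1920 * q) (hq : 0 < q) (h : SolP q a b c X Y Z j)
    (hs : (b * X + a * Y) * (X * X + (Y * Y + Z * Z)) + K * (X * Y)
      ≤ X * Y * (X * X + (Y * Y + Z * Z))) : False := by
  obtain ⟨hX, hXY, hZ, eq, -, hS, -, -, -⟩ := h
  have hY : 0 < Y := lt_of_lt_of_le hX hXY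
  have hZp : 0 < Z := by omega
  set S := X * X + (Y * Y + Z * Z) with hSd
  set p := X * Y with hp
  set w := b * X + a * Y with hw
  have hpp : 0 < p := Nat.mul_pos hX hY
  have hSp : 0 < S := by positivity
  -- j p ≤ q p + j w
  have h1 : j * p * Z ≤ (q * p + j * w) * Z := by
    calc j * p * Z ≤ j * (p * (Z + c)) := by
            have : j * (p * (Z + c)) = j * p * Z + j * (p * c) := by ring
            rw [this]; exact Nat.le_add_right _ _
      _ = q * (p * Z) + j * (Z * w) := eq
      _ = (q * p + j * w) * Z := by ring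
  have h2 : j * p ≤ q * p + j * w := Nat.le_of_mul_le_mul_right h1 hZp
  have hwp : w < p := by
    by_contra hcon
    push Not at hcon
    have : p * S ≤ w * S := Nat.mul_le_mul_right S hcon
    have hK0 : 0 < K := by omega
    have h3 : 0 < K * p := Nat.mul_pos hK0 hpp
    omega
  obtain ⟨e, he⟩ : ∃ e, p = w + e := ⟨p - w, by omega⟩
  have hep : 0 < e := by omega
  have h3 : K * p ≤ e * S := by
    rw [he] at hs
    rw [he]
    have : (w + e) * S = w * S + e * S := by ring
    rw [this] at hs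
    omega
  have h4 : j * e ≤ q * p := by
    have : j * p = j * w + j * e := by rw [he]; ring
    omega
  have h5 : e * S < e * (1920 * j) := Nat.mul_lt_mul_of_pos_left hS hep
  have h6 : e * (1920 * j) = 1920 * (j * e) := by ring
  have h7 : K * p = 1920 * (q * p) := by rw [hK]; ring
  omega

theorem SolP.not_stop1' {K q a b c X Y Z j Y0 Z0 : ℕ} (hK : K = 1920 * q) (hq : 0 < q) (h : SolP q a b c X Y Z j) (hY0 : X ≤ Y0)
    (hYY : Y0 ≤ Y) (hZ0 : Z0 + 1 = X + Y0)
    (hs : (b * X + a * Y0) * (X * X + (Y0 * Y0 + Z0 * Z0)) + K * (X * Y0)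
      ≤ X * Y0 * (X * X + (Y0 * Y0 + Z0 * Z0))) : False := by
  apply h.not_stop1 hK hq
  have hX := h.hX
  have hZ := h.hZ
  have h1 : 0 < Y0 := lt_of_lt_of_le hX hY0
  have hZZ : Z0 ≤ Z := by omega
  have hSS : X * X + (Y0 * Y0 + Z0 * Z0) ≤ X * X + (Y * Y + Z * Z) := by
    have := Nat.mul_le_mul hYY hYY
    have := Nat.mul_le_mul hZZ hZZ
    omega
  have hS0 : 0 < X * X + (Y0 * Y0 + Z0 * Z0) := by positivity
  have := mono_real (X := X) (Y0 := Y0) (Y := Y) (S0 := ((X * X + (Y0 * Y0 + Z0 * Z0) : ℕ) : ℝ))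
    (S := ((X * X + (Y * Y + Z * Z) : ℕ) : ℝ)) (a := a) (b := b) (K := (K : ℝ))
    (by exact_mod_cast hX) (by exact_mod_cast h1) (by exact_mod_cast hYY) (by exact_mod_cast hS0)
    (by exact_mod_cast hSS) (by positivity) (by positivity) (by exact_mod_cast hs)
  exact_mod_cast this

theorem SolP.not_stop2 {q a b c X Y Z j Y0 : ℕ} (hq : 0 < q) (h : SolP q a b c X Y Z j) (hYY : Y0 ≤ Y)
    (hY0 : 0 < Y0) (hs : X * c + X * Y0 ≤ a * Y0) : False := by
  obtain ⟨hX, hXY, hZ, eq, h51, hS, -, -, -⟩ := h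
  have hY : 0 < Y := lt_of_lt_of_le hX hXY
  have hZp : 0 < Z := by omega
  have hj : 0 < j := by omega
  have hXa : X ≤ a := by
    have : X * Y0 ≤ a * Y0 := by omega
    exact Nat.le_of_mul_le_mul_right this hY0
  obtain ⟨e, he⟩ : ∃ e, a = X + e := ⟨a - X, by omega⟩
  have h1 : X * c ≤ e * Y0 := by
    rw [he] at hs
    have : (X + e) * Y0 = X * Y0 + e * Y0 := by ring
    omega
  have h2 : X * c ≤ e * Z := le_trans h1 (Nat.mul_le_mul_left e (by omega))
  -- equation : j p (Z + c) > j Z a Y
  have h3 : j * (Z * (a * Y)) < j * (X * Y * (Z + c)) := by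
    rw [eq]
    have h4 : 0 < q * (X * Y * Z) := by positivity
    have h5 : j * (Z * (a * Y)) ≤ j * (Z * (b * X + a * Y)) :=
      Nat.mul_le_mul_left j (Nat.mul_le_mul_left Z (Nat.le_add_left _ _))
    omega
  have h6 : Z * (a * Y) < X * Y * (Z + c) := Nat.lt_of_mul_lt_mul_left h3
  have h7 : (a * Z) * Y < (X * Z + X * c) * Y := by
    calc (a * Z) * Y = Z * (a * Y) := by ring
      _ < X * Y * (Z + c) := h6
      _ = (X * Z + X * c) * Y := by ring
  have h8 : a * Z < X * Z + X * c := Nat.lt_of_mul_lt_mul_right h7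
  rw [he] at h8
  have : (X + e) * Z = X * Z + e * Z := by ring
  omega

theorem stepP_sound {K q a b c X Y : ℕ} {k : Bool} (hq : 0 < q) (h : stepP K q a b c X Y k = true) :
    ((b * X + a * Y) * (X * X + (Y * Y + (X + Y - 1) * (X + Y - 1))) + K * (X * Y)
      ≤ X * Y * (X * X + (Y * Y + (X + Y - 1) * (X + Y - 1)))) ∨
    (X * c + X * Y ≤ a * Y) ∨
    (k = true ∧ ∀ j, SolP q a b c X Y (X + Y - 1) j → j = 26163) := by
  unfold stepP at h
  beta_reduce at h
  rcases h1 : Nat.ble (Nat.add (Nat.mul (Nat.add (Nat.mul b X) (Nat.mul a Y)) (Nat.add (Nat.mul X X) (Nat.add (Nat.mul Y Y)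
      (Nat.mul (Nat.sub (Nat.add X Y) 1) (Nat.sub (Nat.add X Y) 1))))) (Nat.mul K (Nat.mul X Y)))
      (Nat.mul (Nat.mul X Y) (Nat.add (Nat.mul X X) (Nat.add (Nat.mul Y Y)
      (Nat.mul (Nat.sub (Nat.add X Y) 1) (Nat.sub (Nat.add X Y) 1))))) with _ | _
  · rw [h1] at h
    dsimp only at h
    rcases h2 : Nat.ble (Nat.add (Nat.mul X c) (Nat.mul X Y)) (Nat.mul a Y) with _ | _
    · rw [h2] at h
      dsimp only at h
      right; right
      rcases h3 : Nat.ble (Nat.mul (Nat.mul X Y) (Nat.add (Nat.sub (Nat.add X Y) 1) c))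
        (Nat.mul (Nat.sub (Nat.add X Y) 1) (Nat.add (Nat.mul b X) (Nat.mul a Y))) with _ | _
      · rw [h3] at h
        dsimp only at h
        rcases h4 : fin (Nat.mul q (Nat.mul (Nat.mul X Y) (Nat.sub (Nat.add X Y) 1)))
          (Nat.sub (Nat.mul (Nat.mul X Y) (Nat.add (Nat.sub (Nat.add X Y) 1) c))
            (Nat.mul (Nat.sub (Nat.add X Y) 1) (Nat.add (Nat.mul b X) (Nat.mul a Y)))) X Y
            (Nat.sub (Nat.add X Y) 1) (Nat.add (Nat.mul X X) (Nat.add (Nat.mul Y Y)
      (Nat.mul (Nat.sub (Nat.add X Y) 1) (Nat.sub (Nat.add X Y) 1)))) with _ | _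
        · rw [h4] at h
          exact absurd (show false = true from h) Bool.false_ne_true
        · rw [h4] at h
          refine ⟨h, fun j hj => ?_⟩
          have h3' : ¬ (X * Y * ((X + Y - 1) + c) ≤ (X + Y - 1) * (b * X + a * Y)) := by
            intro hcon
            have h3'' := ble_of_le hcon
            exact absurd (h3.symm.trans h3'') Bool.false_ne_true
          push Not at h3'
          refine fin_sound h4 (Nat.sub_pos_of_lt h3') ?_ hj.h51 hj.hS hj.dX hj.dY hj.dZ
          have := hj.eq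
          change j * (X * Y * ((X + Y - 1) + c) - (X + Y - 1) * (b * X + a * Y)) = q * (X * Y * (X + Y - 1))
          rw [Nat.mul_sub]
          omega
      · rw [h3] at h
        refine ⟨h, fun j hj => ?_⟩
        exfalso
        have h3' : X * Y * ((X + Y - 1) + c) ≤ (X + Y - 1) * (b * X + a * Y) :=
          Nat.le_of_ble_eq_true h3
        have h5 := Nat.mul_le_mul_left j h3'
        have := hj.eq
        have hX := hj.hX
        have hXY := hj.hXY
        have h6 : 0 < q * (X * Y * (X + Y - 1)) := by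
          have h7 : 0 < Y := lt_of_lt_of_le hX hXY
          have h8 : 0 < X + Y - 1 := by omega
          positivity
        omega
    · right; left
      exact Nat.le_of_ble_eq_true h2
  · left
    exact Nat.le_of_ble_eq_true h1

theorem goYP_sound {K q a b c X : ℕ} (hK : K = 1920 * q) (hq : 0 < q) (hX : 0 < X) (fuel : ℕ) :
    ∀ Y, X ≤ Y → goYP K q a b c X fuel Y = true →
      ∀ m Z j, SolP q a b c X (Y + 128 * m) Z j → j = 26163 := by
  induction fuel with
  | zero =>
    intro Y _ h
    exact absurd (show false = true from h) Bool.false_ne_true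
  | succ n ih =>
    intro Y hXY h m Z j hs
    have h' : stepP K q a b c X Y (goYP K q a b c X n (Y + 128)) = true := h
    rcases stepP_sound hq h' with h1 | h1 | ⟨h1, h2⟩
    · exfalso
      exact hs.not_stop1' hK hq (Y0 := Y) (Z0 := X + Y - 1) hXY (by omega) (by omega) h1
    · exfalso
      exact hs.not_stop2 hq (Y0 := Y) (by omega) (by omega) h1
    · rcases m with _ | m
      · have hZ : Z = X + Y - 1 := by have := hs.hZ; omega
        subst hZ
        exact h2 j hs
      · refine ih (Y + 128) (by omega) h1 m Z j ?_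
        have : Y + 128 * (m + 1) = Y + 128 + 128 * m := by ring
        rw [this] at hs
        exact hs

theorem firstY_spec {r X Y : ℕ} (hr : r < 128) (hXY : X ≤ Y) (hY : Y % 128 = r) :
    X ≤ firstY r X ∧ ∃ m, Y = firstY r X + 128 * m := by
  have h1 : firstY r X = X + (r + 128 - X % 128) % 128 := rfl
  rw [h1]
  refine ⟨by omega, ⟨(Y - (X + (r + 128 - X % 128) % 128)) / 128, by omega⟩⟩

theorem goXP_sound {K q f a b c rb : ℕ} (hK : K = 1920 * q) (hq : 0 < q) (hrb : rb < 128) (fuel : ℕ) :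
    ∀ X, 0 < X → goXP K q f a b c rb fuel X = true →
      ∀ m Y Z j, Y % 128 = rb → SolP q a b c (X + 128 * m) Y Z j → j = 26163 := by
  induction fuel with
  | zero =>
    intro X _ h
    exact absurd (show false = true from h) Bool.false_ne_true
  | succ n ih =>
    intro X hX h m Y Z j hY hs
    have h' : Bool.rec (motive := fun _ => Bool) (and (goYP K q a b c X f (firstY rb X)) (goXP K q f a b c rb n (X + 128))) true
      (stopXP K a b X) = true := h
    rcases h1 : stopXP K a b X with _ | _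
    · rw [h1] at h'
      have h2 : goYP K q a b c X f (firstY rb X) = true ∧ goXP K q f a b c rb n (X + 128) = true := by
        simpa using h'
      rcases m with _ | m
      · have hXY := hs.hXY
        obtain ⟨h3, k, hk⟩ := firstY_spec hrb (X := X) (Y := Y) (by simpa using hXY) hY
        refine goYP_sound hK hq hX f _ h3 h2.1 k Z j ?_
        rw [← hk]
        simpa using hs
      · refine ih (X + 128) (by omega) h2.2 m Y Z j hY ?_
        have : X + 128 * (m + 1) = X + 128 + 128 * m := by ring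
        rw [this] at hs
        exact hs
    · exfalso
      have h2 : (a + b) * (X * X + (X * X + (X + X - 1) * (X + X - 1))) + X * K
        ≤ X * (X * X + (X * X + (X + X - 1) * (X + X - 1))) := Nat.le_of_ble_eq_true h1
      have hXY := hs.hXY
      have hZ := hs.hZ
      apply hs.not_stop1 hK hq
      set X' := X + 128 * m with hX'
      have hXX : X ≤ X' := by omega
      obtain ⟨Z0, hZ0⟩ : ∃ Z0, Z0 + 1 = X + X := ⟨X + X - 1, by omega⟩
      have e0 : X + X - 1 = Z0 := by omega
      rw [e0] at h2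
      have hZZ : Z0 ≤ Z := by omega
      have hXY0 : X ≤ Y := by omega
      have hSS : X * X + (X * X + Z0 * Z0) ≤ X' * X' + (Y * Y + Z * Z) := by
        have := Nat.mul_le_mul hXX hXX
        have := Nat.mul_le_mul hXY0 hXY0
        have := Nat.mul_le_mul hZZ hZZ
        omega
      have hS0 : 0 < X * X + (X * X + Z0 * Z0) := by positivity
      -- real inequalities
      have rX : (0 : ℝ) < X := by exact_mod_cast hX
      have rXX : (X : ℝ) ≤ X' := by exact_mod_cast hXX
      have rXY : (X : ℝ) ≤ Y := by exact_mod_cast hXY0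
      have rX' : (0 : ℝ) < X' := lt_of_lt_of_le rX rXX
      have rY : (0 : ℝ) < Y := lt_of_lt_of_le rX rXY
      have rS0 : (0 : ℝ) < ((X * X + (X * X + Z0 * Z0) : ℕ) : ℝ) := by exact_mod_cast hS0
      have rSS : ((X * X + (X * X + Z0 * Z0) : ℕ) : ℝ) ≤ ((X' * X' + (Y * Y + Z * Z) : ℕ) : ℝ) := by
        exact_mod_cast hSS
      set S0 := ((X * X + (X * X + Z0 * Z0) : ℕ) : ℝ) with hS0d
      set S := ((X' * X' + (Y * Y + Z * Z) : ℕ) : ℝ) with hSd
      have rS : 0 < S := lt_of_lt_of_le rS0 rSS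
      have r2 : ((a : ℝ) + b) * S0 + X * K ≤ X * S0 := by
        rw [hS0d]
        exact_mod_cast h2
      have r3 : ((a : ℝ) + b) / X + K / S0 ≤ 1 := by
        have e : ((a : ℝ) + b) / X + K / S0 = (((a : ℝ) + b) * S0 + X * K) / (X * S0) := by
          field_simp
        rw [e, div_le_one (by positivity)]
        exact r2
      have r4 : (a : ℝ) / X' ≤ a / X := div_le_div_of_nonneg_left (by positivity) rX rXX
      have r5 : (b : ℝ) / Y ≤ b / X := div_le_div_of_nonneg_left (by positivity) rX rXY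
      have r6 : (K : ℝ) / S ≤ K / S0 := div_le_div_of_nonneg_left (by positivity) rS0 rSS
      have r7 : (b : ℝ) / Y + a / X' + K / S ≤ 1 := by
        have e : ((a : ℝ) + b) / X = a / X + b / X := by ring
        rw [e] at r3
        linarith
      have e : (b : ℝ) / Y + a / X' + K / S
          = ((b * X' + a * Y) * S + K * (X' * Y)) / (X' * Y * S) := by
        field_simp
      rw [e, div_le_one (by positivity)] at r7
      rw [hSd] at r7
      exact_mod_cast r7

/-! ### The case `x < 0` -/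

theorem mono_real' {X Y0 Y S0 S a b K : ℝ} (hX : 0 < X) (hY0 : 0 < Y0) (hY : Y0 ≤ Y) (hS0 : 0 < S0)
    (hS : S0 ≤ S) (hb : 0 ≤ b) (hK : 0 ≤ K)
    (h : X * (b * S0 + K * Y0) ≤ (X + a) * (Y0 * S0)) :
    X * (b * S + K * Y) ≤ (X + a) * (Y * S) := by
  have hYp : 0 < Y := lt_of_lt_of_le hY0 hY
  have hSp : 0 < S := lt_of_lt_of_le hS0 hS
  have h1 : b / Y0 + K / S0 ≤ (X + a) / X := by
    have e : b / Y0 + K / S0 = (X * (b * S0 + K * Y0)) / (X * (Y0 * S0)) := by
      field_simp
    have e' : (X + a) / X = ((X + a) * (Y0 * S0)) / (X * (Y0 * S0)) := by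
      field_simp
    rw [e, e']
    exact div_le_div_of_nonneg_right h (by positivity)
  have h2 : b / Y ≤ b / Y0 := div_le_div_of_nonneg_left hb hY0 hY
  have h3 : K / S ≤ K / S0 := div_le_div_of_nonneg_left hK hS0 hS
  have h4 : b / Y + K / S ≤ (X + a) / X := by linarith
  have e : b / Y + K / S = (X * (b * S + K * Y)) / (X * (Y * S)) := by
    field_simp
  have e' : (X + a) / X = ((X + a) * (Y * S)) / (X * (Y * S)) := by
    field_simp
  rw [e, e', div_le_div_iff_of_pos_right (by positivity)] at h4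
  exact h4

theorem SolN.not_stop1 {K q a b c X Y Z j : ℕ} (hK : K = 1920 * q) (hq : 0 < q)
    (h : SolN q a b c X Y Z j)
    (hs : X * (b * (X * X + (Y * Y + Z * Z)) + K * Y)
      ≤ (X + a) * (Y * (X * X + (Y * Y + Z * Z)))) : False := by
  obtain ⟨hX, hXY, hZ, eq, h51, hS, -, -, -⟩ := h
  have hY : 0 < Y := lt_of_lt_of_le hX hXY
  have hZp : 0 < Z := by omega
  have hYZ : Y ≤ Z := by omega
  have hj : 0 < j := by omega
  have hSp : 0 < X * X + (Y * Y + Z * Z) := by positivity
  have rX : (0 : ℝ) < X := by exact_mod_cast hX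
  have rY : (0 : ℝ) < Y := by exact_mod_cast hY
  have rZ : (0 : ℝ) < Z := by exact_mod_cast hZp
  have rj : (0 : ℝ) < j := by exact_mod_cast hj
  have rYZ : (Y : ℝ) ≤ Z := by exact_mod_cast hYZ
  have rS : (0 : ℝ) < ((X * X + (Y * Y + Z * Z) : ℕ) : ℝ) := by exact_mod_cast hSp
  have rSj : ((X * X + (Y * Y + Z * Z) : ℕ) : ℝ) < 1920 * j := by exact_mod_cast hS
  have rs : (X : ℝ) * (b * ((X * X + (Y * Y + Z * Z) : ℕ) : ℝ) + K * Y)
      ≤ (X + a) * (Y * ((X * X + (Y * Y + Z * Z) : ℕ) : ℝ)) := by exact_mod_cast hs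
  have rK : (K : ℝ) = 1920 * q := by rw [hK]; push_cast; ring
  have rq : (0 : ℝ) < q := by exact_mod_cast hq
  set S := ((X * X + (Y * Y + Z * Z) : ℕ) : ℝ) with hSd
  have req : (j : ℝ) * (X * Y * Z + Z * (a * Y + c * X)) = q * (X * Y * Z) + j * (b * (X * Y)) := by
    exact_mod_cast eq
  -- (X+a)/X ≤ b/Z + q/j - c/Y ≤ b/Y + q / j < b / Y + K / S
  have h1 : ((X : ℝ) + a) / X + c / Y = b / Z + q / j := by
    field_simp
    linarith
  have h2 : (b : ℝ) / Z ≤ b / Y := div_le_div_of_nonneg_left (by positivity) rY rYZ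
  have h3 : (q : ℝ) / j < K / S := by
    rw [rK, div_lt_div_iff₀ rj rS]
    have := mul_lt_mul_of_pos_left rSj rq
    linarith
  have h4 : (0 : ℝ) ≤ c / Y := by positivity
  have h5 : (b : ℝ) / Y + K / S ≤ (X + a) / X := by
    have e : (b : ℝ) / Y + K / S = (X * (b * S + K * Y)) / (X * (Y * S)) := by
      field_simp
    have e' : ((X : ℝ) + a) / X = ((X + a) * (Y * S)) / (X * (Y * S)) := by
      field_simp
    rw [e, e', div_le_div_iff_of_pos_right (by positivity)]
    exact rs
  linarith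

theorem SolN.not_stop1' {K q a b c X Y Z j Y0 Z0 : ℕ} (hK : K = 1920 * q) (hq : 0 < q)
    (h : SolN q a b c X Y Z j) (hY0 : X ≤ Y0)
    (hYY : Y0 ≤ Y) (hZ0 : Z0 = X + Y0 + 1)
    (hs : X * (b * (X * X + (Y0 * Y0 + Z0 * Z0)) + K * Y0)
      ≤ (X + a) * (Y0 * (X * X + (Y0 * Y0 + Z0 * Z0)))) : False := by
  apply h.not_stop1 hK hq
  have hX := h.hX
  have hZ := h.hZ
  have h1 : 0 < Y0 := lt_of_lt_of_le hX hY0
  have hZZ : Z0 ≤ Z := by omega
  have hSS : X * X + (Y0 * Y0 + Z0 * Z0) ≤ X * X + (Y * Y + Z * Z) := by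
    have := Nat.mul_le_mul hYY hYY
    have := Nat.mul_le_mul hZZ hZZ
    omega
  have hS0 : 0 < X * X + (Y0 * Y0 + Z0 * Z0) := by positivity
  have := mono_real' (X := X) (Y0 := Y0) (Y := Y) (S0 := ((X * X + (Y0 * Y0 + Z0 * Z0) : ℕ) : ℝ))
    (S := ((X * X + (Y * Y + Z * Z) : ℕ) : ℝ)) (a := a) (b := b) (K := (K : ℝ))
    (by exact_mod_cast hX) (by exact_mod_cast h1) (by exact_mod_cast hYY) (by exact_mod_cast hS0)
    (by exact_mod_cast hSS) (by positivity) (by positivity) (by exact_mod_cast hs)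
  exact_mod_cast this

theorem stepN_sound {K q a b c X Y : ℕ} {k : Bool} (hq : 0 < q) (h : stepN K q a b c X Y k = true) :
    (X * (b * (X * X + (Y * Y + (X + Y + 1) * (X + Y + 1))) + K * Y)
      ≤ (X + a) * (Y * (X * X + (Y * Y + (X + Y + 1) * (X + Y + 1))))) ∨
    (k = true ∧ ∀ j, SolN q a b c X Y (X + Y + 1) j → j = 26163) := by
  unfold stepN at h
  beta_reduce at h
  rcases h1 : (Nat.ble (Nat.mul X (Nat.add (Nat.mul b (Nat.add (Nat.mul X X) (Nat.add (Nat.mul Y Y)
      (Nat.mul (Nat.add (Nat.add X Y) 1) (Nat.add (Nat.add X Y) 1))))) (Nat.mul K Y)))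
        (Nat.mul (Nat.add X a) (Nat.mul Y (Nat.add (Nat.mul X X) (Nat.add (Nat.mul Y Y)
      (Nat.mul (Nat.add (Nat.add X Y) 1) (Nat.add (Nat.add X Y) 1))))))) with _ | _
  · rw [h1] at h
    dsimp only at h
    right
    rcases h3 : Nat.ble (Nat.add (Nat.mul (Nat.mul X Y) (Nat.add (Nat.add X Y) 1))
        (Nat.mul (Nat.add (Nat.add X Y) 1) (Nat.add (Nat.mul a Y) (Nat.mul c X))))
        (Nat.mul b (Nat.mul X Y)) with _ | _
    · rw [h3] at h
      dsimp only at h
      rcases h4 : fin (Nat.mul q (Nat.mul (Nat.mul X Y) (Nat.add (Nat.add X Y) 1)))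
        (Nat.sub (Nat.add (Nat.mul (Nat.mul X Y) (Nat.add (Nat.add X Y) 1))
        (Nat.mul (Nat.add (Nat.add X Y) 1) (Nat.add (Nat.mul a Y) (Nat.mul c X))))
        (Nat.mul b (Nat.mul X Y))) X Y
          (Nat.add (Nat.add X Y) 1) (Nat.add (Nat.mul X X) (Nat.add (Nat.mul Y Y)
      (Nat.mul (Nat.add (Nat.add X Y) 1) (Nat.add (Nat.add X Y) 1)))) with _ | _
      · rw [h4] at h
        exact absurd (show false = true from h) Bool.false_ne_true
      · rw [h4] at h
        refine ⟨h, fun j hj => ?_⟩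
        have h3' : ¬ (X * Y * (X + Y + 1) + (X + Y + 1) * (a * Y + c * X) ≤ b * (X * Y)) := by
          intro hcon
          have h3'' := ble_of_le hcon
          exact absurd (h3.symm.trans h3'') Bool.false_ne_true
        push Not at h3'
        refine fin_sound h4 (Nat.sub_pos_of_lt h3') ?_ hj.h51 hj.hS hj.dX hj.dY hj.dZ
        have := hj.eq
        change j * (X * Y * (X + Y + 1) + (X + Y + 1) * (a * Y + c * X) - b * (X * Y))
          = q * (X * Y * (X + Y + 1))
        rw [Nat.mul_sub]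
        omega
    · rw [h3] at h
      refine ⟨h, fun j hj => ?_⟩
      exfalso
      have h3' : X * Y * (X + Y + 1) + (X + Y + 1) * (a * Y + c * X) ≤ b * (X * Y) :=
        Nat.le_of_ble_eq_true h3
      have h5 := Nat.mul_le_mul_left j h3'
      have := hj.eq
      have hX := hj.hX
      have hXY := hj.hXY
      have h6 : 0 < q * (X * Y * (X + Y + 1)) := by
        have h7 : 0 < Y := lt_of_lt_of_le hX hXY
        positivity
      omega
  · left
    exact Nat.le_of_ble_eq_true h1

theorem goYN_sound {K q a b c X : ℕ} (hK : K = 1920 * q) (hq : 0 < q) (hX : 0 < X) (fuel : ℕ) :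
    ∀ Y, X ≤ Y → goYN K q a b c X fuel Y = true →
      ∀ m Z j, SolN q a b c X (Y + 128 * m) Z j → j = 26163 := by
  induction fuel with
  | zero =>
    intro Y _ h
    exact absurd (show false = true from h) Bool.false_ne_true
  | succ n ih =>
    intro Y hXY h m Z j hs
    have h' : stepN K q a b c X Y (goYN K q a b c X n (Y + 128)) = true := h
    rcases stepN_sound hq h' with h1 | ⟨h1, h2⟩
    · exfalso
      exact hs.not_stop1' hK hq (Y0 := Y) (Z0 := X + Y + 1) hXY (by omega) (by omega) h1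
    · rcases m with _ | m
      · have hZ : Z = X + Y + 1 := by have := hs.hZ; omega
        subst hZ
        exact h2 j hs
      · refine ih (Y + 128) (by omega) h1 m Z j ?_
        have : Y + 128 * (m + 1) = Y + 128 + 128 * m := by ring
        rw [this] at hs
        exact hs

theorem goXN_sound {K q f a b c rc : ℕ} (hK : K = 1920 * q) (hq : 0 < q) (hrc : rc < 128)
    (fuel : ℕ) :
    ∀ X, 0 < X → goXN K q f a b c rc fuel X = true →
      ∀ m Y Z j, Y % 128 = rc → SolN q a b c (X + 128 * m) Y Z j → j = 26163 := by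
  induction fuel with
  | zero =>
    intro X _ h
    exact absurd (show false = true from h) Bool.false_ne_true
  | succ n ih =>
    intro X hX h m Y Z j hY hs
    have h' : Bool.rec (motive := fun _ => Bool) (and (goYN K q a b c X f (firstY rc X))
      (goXN K q f a b c rc n (X + 128))) true (stopXN K b X) = true := h
    rcases h1 : stopXN K b X with _ | _
    · rw [h1] at h'
      have h2 : goYN K q a b c X f (firstY rc X) = true ∧ goXN K q f a b c rc n (X + 128) = true := by
        simpa using h'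
      rcases m with _ | m
      · have hXY := hs.hXY
        obtain ⟨h3, k, hk⟩ := firstY_spec hrc (X := X) (Y := Y) (by simpa using hXY) hY
        refine goYN_sound hK hq hX f _ h3 h2.1 k Z j ?_
        rw [← hk]
        simpa using hs
      · refine ih (X + 128) (by omega) h2.2 m Y Z j hY ?_
        have : X + 128 * (m + 1) = X + 128 + 128 * m := by ring
        rw [this] at hs
        exact hs
    · exfalso
      have h2 : b * (X * X + (X * X + (X + X + 1) * (X + X + 1))) + X * K
        ≤ X * (X * X + (X * X + (X + X + 1) * (X + X + 1))) := Nat.le_of_ble_eq_true h1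
      have hXY := hs.hXY
      have hZ := hs.hZ
      apply hs.not_stop1 hK hq
      set X' := X + 128 * m with hX'
      have hXX : X ≤ X' := by omega
      obtain ⟨Z0, hZ0⟩ : ∃ Z0, Z0 = X + X + 1 := ⟨X + X + 1, rfl⟩
      rw [← hZ0] at h2
      have hZZ : Z0 ≤ Z := by omega
      have hXY0 : X ≤ Y := by omega
      have hSS : X * X + (X * X + Z0 * Z0) ≤ X' * X' + (Y * Y + Z * Z) := by
        have := Nat.mul_le_mul hXX hXX
        have := Nat.mul_le_mul hXY0 hXY0
        have := Nat.mul_le_mul hZZ hZZ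
        omega
      have hS0 : 0 < X * X + (X * X + Z0 * Z0) := by positivity
      have rX : (0 : ℝ) < X := by exact_mod_cast hX
      have rXX : (X : ℝ) ≤ X' := by exact_mod_cast hXX
      have rXY : (X : ℝ) ≤ Y := by exact_mod_cast hXY0
      have rX' : (0 : ℝ) < X' := lt_of_lt_of_le rX rXX
      have rY : (0 : ℝ) < Y := lt_of_lt_of_le rX rXY
      have rS0 : (0 : ℝ) < ((X * X + (X * X + Z0 * Z0) : ℕ) : ℝ) := by exact_mod_cast hS0
      have rSS : ((X * X + (X * X + Z0 * Z0) : ℕ) : ℝ) ≤ ((X' * X' + (Y * Y + Z * Z) : ℕ) : ℝ) := by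
        exact_mod_cast hSS
      set S0 := ((X * X + (X * X + Z0 * Z0) : ℕ) : ℝ) with hS0d
      set S := ((X' * X' + (Y * Y + Z * Z) : ℕ) : ℝ) with hSd
      have rS : 0 < S := lt_of_lt_of_le rS0 rSS
      have r2 : (b : ℝ) * S0 + X * K ≤ X * S0 := by
        rw [hS0d]
        exact_mod_cast h2
      have r3 : (b : ℝ) / X + K / S0 ≤ 1 := by
        have e : (b : ℝ) / X + K / S0 = ((b : ℝ) * S0 + X * K) / (X * S0) := by
          field_simp
        rw [e, div_le_one (by positivity)]
        exact r2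
      have r4 : (1 : ℝ) ≤ (X' + a) / X' := by
        rw [le_div_iff₀ rX']
        have : (0 : ℝ) ≤ a := by positivity
        linarith
      have r5 : (b : ℝ) / Y ≤ b / X := div_le_div_of_nonneg_left (by positivity) rX rXY
      have r6 : (K : ℝ) / S ≤ K / S0 := div_le_div_of_nonneg_left (by positivity) rS0 rSS
      have r7 : (b : ℝ) / Y + K / S ≤ (X' + a) / X' := by linarith
      have e : (b : ℝ) / Y + K / S = (X' * (b * S + K * Y)) / (X' * (Y * S)) := by
        field_simp
      have e' : ((X' : ℝ) + a) / X' = ((X' + a) * (Y * S)) / (X' * (Y * S)) := by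
        field_simp
      rw [e, e', div_le_div_iff_of_pos_right (by positivity)] at r7
      rw [hSd] at r7
      exact_mod_cast r7

end Cfsg.Agent.J3Type.CharSearch
end

-- part: J3Type/CharBox
section
/-!
# The finite list of possible values

The possible values of an irreducible character of degree prime to the coefficient `a₄` at the roots of the
involution, and the search over triples of them.
-/

set_option autoImplicit false

namespace Cfsg.Agent.J3Type.CharBox

open Cfsg.Agent.J3Type.CharSearch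

/-- entries: code of `(v4, v6, v8, v12, w, r)`, square of `v2`, residue of the degree modulo 128 -/
def tab : List (ℕ × ℕ × ℕ) := [(90908091011, 9, 109),
  (90908101014, 144, 44),
  (90908101208, 4, 18),
  (90909080912, 4, 66),
  (90909090915, 289, 1),
  (90909091109, 49, 103),
  (90909101112, 484, 38),
  (90910081010, 144, 60),
  (90910091013, 729, 123),
  (90910091207, 289, 97),
  (91108101008, 324, 98),
  (91109090909, 529, 55),
  (100609101112, 4, 110),
  (100808090811, 121, 5),
  (100808100814, 16, 68),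
  (100808101008, 36, 42),
  (100808111011, 81, 105),
  (100809090909, 1, 127),
  (100809100912, 196, 62),
  (100809101106, 16, 36),
  (100809111109, 361, 99),
  (100810080810, 16, 84),
  (100810090813, 361, 19),
  (100810091007, 81, 121),
  (100810101010, 576, 56),
  (100810101204, 196, 30),
  (100811080908, 196, 78),
  (100811090911, 841, 13),
  (100811091105, 361, 115),
  (100811101108, 1156, 50),
  (101008090805, 25, 59),
  (101008091211, 25, 85),
  (101008100808, 100, 122),
  (101008101214, 400, 20),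
  (101008110811, 625, 57),
  (101008111005, 225, 31),
  (101009081112, 100, 42),
  (101009090709, 225, 79),
  (101009090903, 25, 53),
  (101009091115, 625, 105),
  (101009091309, 225, 79),
  (101009100712, 900, 14),
  (101009100906, 400, 116),
  (101009101312, 900, 14),
  (101009110909, 1225, 51),
  (101010081210, 400, 36),
  (101010090807, 625, 73),
  (101010101004, 900, 110),
  (101208091011, 441, 37),
  (101209091109, 961, 31),
  (110908091011, 9, 109),
  (110908101014, 144, 44),
  (110908101208, 4, 18),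
  (110909080912, 4, 66),
  (110909090915, 289, 1),
  (110909091109, 49, 103),
  (110909101112, 484, 38),
  (110910081010, 144, 60),
  (110910091013, 729, 123),
  (110910091207, 289, 97),
  (111108101008, 324, 98),
  (111109090909, 529, 55)]

/-- the integers from `-n` to `n` -/
def rng (n : ℕ) : List ℤ := List.map (fun k : ℕ => (k : ℤ) - (n : ℤ)) (List.range (2 * n + 1))

theorem abs_lt_of {v n : ℤ} (hn : 0 < n) (h : v * v < n * n) : -n < v ∧ v < n := by
  constructor <;> nlinarith

theorem mem_rng {n : ℕ} {v : ℤ} (h1 : -(n : ℤ) ≤ v) (h2 : v ≤ n) : v ∈ rng n := by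
  unfold rng
  rw [List.mem_map]
  refine ⟨(v + n).toNat, ?_, ?_⟩
  · rw [List.mem_range]; omega
  · omega

/-- the conditions on the values -/
structure Val (v2 v4 v6 v8 v12 w r : ℤ) : Prop where
  a4 : 3 * v2 = 120 + 5 * v4 + 30 * v8 + 40 * v12 + 24 * w
  c1 : (4 : ℤ) ∣ v2 - v4
  c2 : (2 : ℤ) ∣ v6 - v12
  c3 : (3 : ℤ) ∣ v2 - v6
  c7 : (2 : ℤ) ∣ r - w
  bessel : v2 * v2 + 20 * (v4 * v4) + 80 * (v6 * v6) + 240 * (v8 * v8) + 160 * (v12 * v12)
    + 96 * (w * w) + 480 * (r * r) < 1920

/-- the code of the values -/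
def code (v4 v6 v8 v12 w r : ℤ) : ℤ :=
  (v4 + 10) + 100 * (v6 + 10) + 10000 * (v8 + 10) + 1000000 * (v12 + 10) + 100000000 * (w + 10)
    + 10000000000 * (r + 10)

/-- the residue of the degree -/
def res (v2 v4 v8 : ℤ) : ℤ := (-(35 * v2 + 44 * v4 + 48 * v8)) % 128

/-- inner test -/
def inner (v2 v4 v8 v12 w : ℤ) : Bool :=
  (rng 4).all fun v6 => (rng 1).all fun r =>
    (!(decide ((v6 - v12) % 2 = 0) && (decide ((v2 - v6) % 3 = 0) && (decide ((r - w) % 2 = 0) &&
      decide (v2 * v2 + 20 * (v4 * v4) + 80 * (v6 * v6) + 240 * (v8 * v8) + 160 * (v12 * v12)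
    + 96 * (w * w) + 480 * (r * r) < 1920))))) ||
      tab.any fun e => decide ((e.1 : ℤ) = code v4 v6 v8 v12 w r) &&
        (decide ((e.2.1 : ℤ) = v2 * v2) && decide ((e.2.2 : ℤ) = res v2 v4 v8))

/-- outer test -/
def outer : Bool :=
  (rng 9).all fun v4 => (rng 2).all fun v8 => (rng 3).all fun v12 => (rng 4).all fun w =>
    !(decide ((120 + 5 * v4 + 30 * v8 + 40 * v12 + 24 * w) % 3 = 0) &&
      (decide (((120 + 5 * v4 + 30 * v8 + 40 * v12 + 24 * w) / 3 - v4) % 4 = 0) &&
        decide (((120 + 5 * v4 + 30 * v8 + 40 * v12 + 24 * w) / 3) *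
          ((120 + 5 * v4 + 30 * v8 + 40 * v12 + 24 * w) / 3) + 20 * (v4 * v4) + 240 * (v8 * v8)
            + 160 * (v12 * v12) + 96 * (w * w) < 1920))) ||
      inner ((120 + 5 * v4 + 30 * v8 + 40 * v12 + 24 * w) / 3) v4 v8 v12 w

theorem outer_eq : outer = true := by decide +kernel

theorem mem_tab {v2 v4 v6 v8 v12 w r : ℤ} (h : Val v2 v4 v6 v8 v12 w r) :
    ∃ e ∈ tab, (e.1 : ℤ) = code v4 v6 v8 v12 w r ∧ (e.2.1 : ℤ) = v2 * v2 ∧
      (e.2.2 : ℤ) = res v2 v4 v8 := by
  obtain ⟨a4, c1, c2, c3, c7, bs⟩ := h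
  have p2 := mul_self_nonneg v2
  have p4 := mul_self_nonneg v4
  have p6 := mul_self_nonneg v6
  have p8 := mul_self_nonneg v8
  have p12 := mul_self_nonneg v12
  have pw := mul_self_nonneg w
  have pr := mul_self_nonneg r
  have b4 : v4 * v4 < 10 * 10 := by omega
  have b6 : v6 * v6 < 5 * 5 := by omega
  have b8 : v8 * v8 < 3 * 3 := by omega
  have b12 : v12 * v12 < 4 * 4 := by omega
  have bw : w * w < 5 * 5 := by omega
  have br : r * r < 2 * 2 := by omega
  have a4' := abs_lt_of (by norm_num) b4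
  have a6' := abs_lt_of (by norm_num) b6
  have a8' := abs_lt_of (by norm_num) b8
  have a12' := abs_lt_of (by norm_num) b12
  have aw' := abs_lt_of (by norm_num) bw
  have ar' := abs_lt_of (by norm_num) br
  have h0 := outer_eq
  unfold outer at h0
  rw [List.all_eq_true] at h0
  have h1 := h0 v4 (mem_rng (by omega) (by omega))
  rw [List.all_eq_true] at h1
  have h2 := h1 v8 (mem_rng (by omega) (by omega))
  rw [List.all_eq_true] at h2
  have h3 := h2 v12 (mem_rng (by omega) (by omega))
  rw [List.all_eq_true] at h3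
  have h4 := h3 w (mem_rng (by omega) (by omega))
  have e2 : (120 + 5 * v4 + 30 * v8 + 40 * v12 + 24 * w) / 3 = v2 := by omega
  rw [e2] at h4
  have e3 : (decide ((120 + 5 * v4 + 30 * v8 + 40 * v12 + 24 * w) % 3 = 0)) = true := by
    rw [decide_eq_true_eq]; omega
  have e4 : (decide ((v2 - v4) % 4 = 0)) = true := by
    rw [decide_eq_true_eq]; omega
  have e5 : (decide (v2 * v2 + 20 * (v4 * v4) + 240 * (v8 * v8)
            + 160 * (v12 * v12) + 96 * (w * w) < 1920)) = true := by
    rw [decide_eq_true_eq]; omega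
  rw [e3, e4, e5] at h4
  simp only [Bool.and_self, Bool.not_true, Bool.false_or] at h4
  unfold inner at h4
  rw [List.all_eq_true] at h4
  have h5 := h4 v6 (mem_rng (by omega) (by omega))
  rw [List.all_eq_true] at h5
  have h6 := h5 r (mem_rng (by omega) (by omega))
  have e6 : (decide ((v6 - v12) % 2 = 0)) = true := by
    rw [decide_eq_true_eq]; omega
  have e7 : (decide ((v2 - v6) % 3 = 0)) = true := by
    rw [decide_eq_true_eq]; omega
  have e8 : (decide ((r - w) % 2 = 0)) = true := by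
    rw [decide_eq_true_eq]; omega
  have e9 : (decide (v2 * v2 + 20 * (v4 * v4) + 80 * (v6 * v6) + 240 * (v8 * v8) + 160 * (v12 * v12)
    + 96 * (w * w) + 480 * (r * r) < 1920)) = true := by
    rw [decide_eq_true_eq]; exact bs
  rw [e6, e7, e8, e9] at h6
  simp only [Bool.and_self, Bool.not_true, Bool.false_or, List.any_eq_true, Bool.and_eq_true,
    decide_eq_true_eq] at h6
  exact h6

end Cfsg.Agent.J3Type.CharBox
end

-- part: J3Type/CharTriDef
section
/-!
# The search over triples: definitions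
-/

set_option autoImplicit false

namespace Cfsg.Agent.J3Type.CharTriDef

open Cfsg.Agent.J3Type.CharSearch Cfsg.Agent.J3Type.CharBox

/-- the first positive number congruent to `r` modulo 128 -/
def pos (r : ℕ) : ℕ := Bool.rec r 128 (Nat.beq r 0)

/-- the test for one ordered triple of entries -/
def test (a b c ra rb : ℕ) : Bool :=
  and (goXP 29184000 15200 2000 a b c rb 60 (pos ra))
    (goXN 29184000 15200 2000 a c b (Nat.mod (Nat.sub 128 rb) 128) 60 (pos (Nat.mod (Nat.sub 128 ra) 128)))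

/-- the test for all triples starting with `e` -/
def chk (e : ℕ × ℕ × ℕ) : Bool :=
  tab.all fun f => tab.all fun g =>
    Bool.rec true (test e.2.1 f.2.1 g.2.1 e.2.2 f.2.2)
      (Nat.beq (Nat.add e.1 (Nat.add f.1 g.1)) 302827293127)

end Cfsg.Agent.J3Type.CharTriDef
end
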