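import Mathlib
import Cfsg.Prelude.Def_Characters
import Cfsg.Agent.Characters.Core
import Cfsg.Agent.J3Type.CharTools
import Cfsg.Agent.S0135
import Cfsg.Agent.Characters.CentralCharacter
import Cfsg.Agent.S0875
import Cfsg.Agent.J3Type.CharComb
import Cfsg.Agent.S0145
import Cfsg.Agent.S0840
import Cfsg.Agent.J2Type.CStruct
set_option linter.all false

-- part: J3Type/CodeTab
section
/-!
# The coded centralizer

The elements of the split extension `2^{1+4}_-:A_5` are coded by the numbers less than 1920: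
`32 π + 16 a + b` stands for `z ^ a` times the word with exponents the bits of `b` times the
`π`-th even permutation.  This file has the multiplication of codes (with raw functions on the
natural numbers, evaluated quickly by the kernel) and the numerical facts about it.
-/

set_option autoImplicit false

namespace Cfsg.Agent.J3Type.CodeTab

/-- multiplication table of the even permutations, 6 bits per entry -/
def T1 : ℕ := 0x108310518720928b30d38f41149351559761969b71d79f8218a39259a7a29aabb2dbafc31cb3d35db7e39ebb61969b71d79f8218a30c41400421c620a24b3d044c34e4d2516557aabb25926a27a6fb6edb7e31c32d33d7be7a3d044c34e4d25165576dc75865a7de82286300108310518720928ba27a6baac9259aebedd33d77db8c31cbaef934c3924d43d04555d60400861c80c41492ca9e8a64966aeab2eb6f6dc75865a7de822863cf5d30cb1eb9ef7db818720100210314b24a9259a7a29aabb2dbaf34c3924d43d04555d665869e7e06dc7618e2cb0c79ebbcf5d36e379e8a64966aeab2eb6f49350d30e40f45755618720100210314b24a7de81c6dd6586a38a1eb9ef5cf4cb0c78df610314718800108a2c96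5869e7e06dc7618e29649aaaec9e8a6dbee30d38f411493515597c72c36e37e7beb3d359649aaaec9e8a6dbee1c62040c504008b28979f81961a71b76386249350d30e40f457556e7beb2c70e36df5cf479f81961a71b763862aabb25926a27a6fb6e10314718800108a2c940f45349430d3965d5e36dfbe7ac72c34d7371b75f7a06196a28e140f45349430d3965d5aeab289e99649afbad0c41400421c620a24bdf8db4d73efae71c324d25103d134c397595a27a6baac9259aebed71b75f7a06196a28e10400861c80c41492cad74cfaef9df8db0cb1aeab289e99649afbad7de81c6dd6586a38a14d25103d134c3975951c62040c504008b289efae78df6d74cf2c7030e34f4505565d24d400204314424a2c61c86dd7186998a18df7a0cf4d70c72df6e3ae7b9e8a64966aeab2eb6f0c51000812892c718861a65b75c8628de7e030e34f4505565d24d4c70cb6df8cf4d79efa9649aaaec9e8a6dbee6dd7186998a18df7a03d140c38d5955d34940c51000812892c7188df6e34cf5c70cbbeb9aeab289e99649afbad08004928b0c510620738c3555973d1412513c31cb3d35db7e39ebb61a65b75c8628de7e0926967a68b6ebeaaecc31cb3d35db7e39ebb24a2c20011431081875565ce30d44f4144938628da61975b72079fb6ebe6925a67a2caab5565ce30d44f414493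cf4d70c72df6e3ae7b08004928b0c510620775b72286361a65f81ea67a2eb6f92696bb2a6986618a36dd71e81f14310a24b002047206db7e31c32d33d7be7a3d140c38d5955d3494aacae59a4bedba89e92892c50c40800481c6c70cb6df8cf4d79efa6986618a36dd71e81f38c3555973d14125139a592dbeeaacae7a68db7e31c32d33d7be7a8628da61975b72079f2892c50c40800481c65955d13d038c3544d2bedbacaab9a5929a2744f41655730e35351275b72286361a65f81ed33d77db8c31cbaef900204314424a2c61c8a299ebb2abafb64966d33d77db8c31cbaef95955d13d038c3544d28a18dd6dc6986607de24a2c2001143108187bafb69a27b2baa69258a18dd6dc6986607dedf6e34cf5c70cbbeb944f41655730e35351214310a24b002047206b2baafbada299e59a404200620724b28310534e31251355758f411926967a68b6ebeaaecc32c73d74e7aef6df861969b71d79f8218a3926967a68b6ebeaaec1881c10802c92840c54944cd38c5d55903d1e7aef2c31d73d38db779f81961a71b7638624944cd38c5d55903d19e9a249a5badbebaac04200620724b283105d73d3ae7bc32c77e3671b75f7a06196a28e138d3155d64944cf4500810092ca1881c3144cf5d30cb1eb9ef7db89e9a249a5badbebaac6dd7186998a18df7a024b2820402061c50c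4c32c73d74e7aef6df838d3155d64944cf4509a496dbaf9e9a2ab2b6986618a36dd71e81fcf5d30cb1eb9ef7db855758e34c5124d13d024b2820402061c50c4badbe99e89a496caea8a18dd6dc6986607de2061cb24a0420041439a496dbaf9e9a2ab2bcb0c79ebbcf5d36e3734e31251355758f41165a61e81f86389b71dcb0c79ebbcf5d36e372c9288187081005103b6ebe6925a67a2caab55758e34c5124d13d086389a65881e7dd6dcb6ebe6925a67a2caabe7aef2c31d73d38db72061cb24a0420041435124d755634e31044f81e7e386265a61c75ba67a2eb6f92696bb2a5124d755634e31044feb9ef5cf4cb0c78df61881c10802c92840c57e079c75b8e285961a5d559449338d31140fd73d3ae7bc32c77e36a67a2eb6f92696bb2a0810092ca1881c314475c6e28e17e0798699eb9ef5cf4cb0c78df6badbe99e89a496caea5d559449338d31140f2c92881870810051038e28607de75c6da65865a61e81f86389b71d1050c720628b240042aacae59a4bedba89e9db8df1cb0ef9eb4cf53d044c34e4d25165571c81841432ca24100296692ab2bb6fba7a2965a61e81f86389b71dcb1c39efadb8df3d7434c3924d43d04555d6aacae59a4bedba89e97a07d96988e189c6dd1c81841432ca241002ef9eb8db7cb1c35d334d25103d134c3975951440ca2c91c81800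816996218e27a07db75cc72c36e37e7beb3d3596692ab2bb6fba7a2930e34f4505565d24d4c72c36e37e7beb3d3528b24510320718200186389a65881e7dd6dcb6fba6964b2aae99e85565ce30d44f41449386389a65881e7dd6dcdb8df1cb0ef9eb4cf51440ca2c91c8180081b2aaefb6e966928a6744f41655730e3535129a592dbeeaacae7a6820718b2891050c1080e7beb2c70e36df5cf47a07d96988e189c6dd4944cd38c5d55903d12ca2481c61440c2040cb1c39efadb8df3d749a592dbeeaacae7a686996218e27a07db75c38d3155d64944cf450e7beb2c70e36df5cf4b6fba6964b2aae99e82ca2481c61440c20408e18a079f69961d71b5d559449338d31140f81e7e386265a61c75bb2aaefb6e966928a67e36dfbe7ac72c34d731050c720628b2400424113d351259754c34ee36dfbe7ac72c34d738e18a079f69961d71bbedbacaab9a5929a2728b24510320718200159755140f51348e30dbedbacaab9a5929a27ef9eb8db7cb1c35d3381e7e386265a61c75b20718b2891050c10805134975954113cd38c4113d351259754c34e71d6df81e8a385865aa299ebb2abafb64966d35cf7e36ebbe70c7200108310518720928ba299ebb2abafb649664d449044f5d654d30e7e079c75b8e285961aebbe75d33e37db2c3118720100210314b24a7e079c75b8e2859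61aaecaa8a67beeb659264113d351259754c34ee37dbbeb9d35cf1cb010314718800108a2c975c6e28e17e07986994503d65d54d448c38ddf8db4d73efae71c32aecaa8a67beeb659260c51000812892c718859755140f51348e30dd35cf7e36ebbe70c7275c6e28e17e0798699a689eebedaecaa49a508004928b0c5106207df8db4d73efae71c328a385d71b81f79a61959755140f51348e30dbeeb6caeaa689e69642892c50c40800481c65134975954113cd38ca689eebedaecaa49a5d74cfaef9df8db0cb171d6df81e8a385865a04200620724b283105d74cfaef9df8db0cb15d65544d24503ce34cbafb69a27b2baa69258a385d71b81f79a61924b2820402061c50c4bafb69a27b2baa6925ebbe75d33e37db2c315134975954113cd38c81f7a38a171d6d96982061cb24a042004143b2baafbada299e59a481f7a38a171d6d9698efae78df6d74cf2c704d449044f5d654d30e1c81841432ca2410028e28607de75c6da658e37dbbeb9d35cf1cb0b2baafbada299e59a44503d65d54d448c38d1440ca2c91c8180081efae78df6d74cf2c70beeb6caeaa689e69648e28607de75c6da6585d65544d24503ce34c2ca2481c61440c2040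

/-- the action of the even permutations on the words, 5 bits per entry -/
def T2 : ℕ := 0xbada170898fcea9b2980bafd278eca68498aa580baff3ec6a9f4aca26180bf7717d669f105833140bf7c458458f94cc9a540bf7e5750ccdc66916140bbb62e9038fd86a2b120bb9b4798acd88381a920bbbf65c86a6d0ac0e120bbf6375a4a6d629a3300bbdb55ce29f1a8c92b00bbfc6e968cd8e4a8a7005ddb17cf25f0914d1b805dfc2e8514f8f46c97805dfe374b466c725453805f4e172054fe665570c05f7d87a55c38454994c05f7f9bc665f615c150c05b8f27e8666a0344f0a05b9a8b8834fa93c198a05bbeaee13c3c8660d0a05bcf3ee625f6a46c72805bda972b1c3ce2591a805bfdab8e466a71c89680edf6171112fd723e5b40edfd479796d8512c8f40edff55c723f539644b40eacf17e6a3f209266ac0eafc8b8492fa59aa8ec0eafe97619a3c6a324ac0eb8e45a032ff0b64e860ebb787b13a390322d860ebbfcbd0b6de13a0c860ebce577296de623c6a40ebf79bd623f331aa5a40ebfcc5a71a3969688e4075f727db5369111e572075da458911f9b95d4f2075fe6ed395dcb534472072ce2ea091fead3666a072db87a99938891b4ea072ffabcad36e199246a0774f47f0d5da0515666077768b9051fb15935660777ec5e1593d0d51466073cf65ea536f295c662073f6aeb3193da53a562073dbcb9a95dab1994e207df73ed721f5b42e11007dda571b84dcf21d09007dfd658f4269784c85007ace376ac26e6a1620807adb9bcea1f2988b08807afcaea58838ec2a84807f4f55e661f70c4520407f769731483d661310407f7dcb94c4da548984407b8e6ef0a4de8624a0207bb7abd8626b128290207b9ac5a928398a418820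

/-- the cocycle, one bit per entry -/
def T3 : ℕ := 0x33cc996655aaff00a55a0ff0c33c69965a5af0f03c3c9696cccc6666aaaa0000

/-- the values of the even permutations, 3 bits per entry -/
def TV : ℕ := 0x5388170a0e10d40ca8c850266308c4c188b10b4234442146118d111831380a6604d085888b8816540e141a84305c4c188b11111a10b5086838540ca7014cc08c61464241c21a85a1085198132a06588888d18c229c06260b88129c0ca81330231831311160b8842d070a0d4214644688

/-- the inverses of the even permutations, 6 bits per entry -/
def TI : ℕ := 0xeec8eeddfd68754590bf883aae2a747174d1e6a86dd9ece76d254f9b167295a93060e34c2c71482842460c1080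

/-- conjugating elements for the roots of the central involution, 11 bits per entry -/
def TW : ℕ := 0x4933a4000009c890400000491384000009d89000000048b394000009d0934000004893b4000009c0930000001ca3a4000e81c43b8000ef000398000001da000760e000000072000000000718001d4000758e70003840000014a290000001522a0570af0002ac000ac14c000000a0000000510a3000000000001540005680000029c50800000000230420000002584f0860002480000012800040098120000000821140000000011c0004d09c000220005d3592b2ae1000000000005d15b2b6ae0000000000005cb5a2b4aed000000000005c9582b0aec00000000000000000a094b0005080014f286000a7000000000a514029851800000290000a28000005240014428e5340000039200254000952000e080039000250000942000e000038a0025200094a000e68003880025600095a000e60002c4000001622c6000001632cc000000002c0000001602ca000000002c8000000002c2000001612ce000000001c400072000000388000e31cc00073800000000000e01ca00071800000000000001c20007000000038400000000000340000001ac3106f0c60003386a000000000600d8184000650cc000000000001b8000000d2190368001442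8c00000000000510a314c28000000000000000a014a290000000000000000014229c00000000000508002ca5880016e2c8000b416f0005b4000002d65b000160000000b480000058c000002d4000b3161000000b38005535100000054950000000a8aa8400000a9aa800000054b5200000055153000000a92ab400000a82ab000000000000940000004a4000002424ac0012f25c00095120258498001222460009392d00000092800000490000000000000080500001c0000a00c0080580f012000000000180200000000600007000000000000000000340200010a21000000114000430000000004708f000230000800000004488800022c0008710420c0000011a000408005134268428d50943686280000000000000000000000050b416822815114068028c000000000000000000000020a42400000214000868000004200010f000000861000000008110e000418001012080008180021641c000003520024280034800240800910000d0800900000d000034a0024480035000246800908000d6800918000d600020400000000202000000002080000010320e0000010020a0000010220c000001012060000000020000000000284000a2000282000a0000000508001430000000014028a000a180028c000a3800000000000000005040000028a50800143294000a594c000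538a414f00000000140000000a2000000534000002920000000028c504a380010420c0000010221c00000000000410830000000008010a2100000010c200000000000000000000000040800000000530000002b800000150000510af14e2a8000a0158284000ab146000548a4000294000000000005680018a324000c6188000000000000006680000033c660c000000065000000320658c7184338000c1186000000000ca1900006b0c418c0006c000000330000dc1bc0006000000035000000000368000d21a000067000000308004d34a53452100000000000a509b696260000000000004cb4953252d00000000000a489869026c00000000000000000b1800000000b70002d0000000000005bcb51602d8598001692c25ac00164000588b396d2ca0000000000000011800000000148000420940002a0560bc000200580a00002704c0880002d00000017000000000120005936116458cb12b36c6ac0000000000000000000000058b62162580b0ab06c0acc000000000000000000000024400093000000000000002480009000000048c0012024a0009080000048800121246000938000000000000018400063000186000638000000000000000030c000c018a0006080018800060000000308000c100000000000312000c40009880026000098a00260800302000c000030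a000c2000990002660009920026680031a000c600024a4880012d2520000000000048c9592c2504bc00120000000950000004b8931212480000000000000093800000000418000002144388a10c0000000010423c000801182040008e1100000000000022c44884000000468000c418c3306000000000000000000000000c418c000600ca1903086700000000000000000000000000003080004a0a8000000440b400000000000000000460b01782000000014826000000170210480ac1402700000000000044084000000000000000004809c000000000001182004a09800000000000110210460800000000000000000000000708ee000000000001d039c728ea000000778e01d838c000001cc3a4758e4000000000001c43b40000000000083109000000000002024380000020a4288790021840c0000021041c8110d00000085904000000000000841040000008610000000000000000000000002184008a1180000008811c00000000000210410000000000008a1280000008812c2184c00000000000000000278400000002104d000000000000921182704109011c00000000000640c7000000628ca18c32400000000000678c019830c0000018233800000000000610cd1963100000000a02800000012018000000000000180c000000078000000000200b000000040070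040340000001c004000000040040200700000000000000000000000000000180000a01801800000000000000000000000000400400000452892f45e000000000000bcb7b516a200000000000044a8a2f25ec00000000000bd378510a2c00000000000412812e2dcdb8973106a00000000000000000000000040a822e4dc1b9170100a0c00000000000000000000003d279000000b5368400000b51680000003da780000003ca7a000000b4b6b400000b496b0000003c27b0000000000a4628001880000002d050000000cd000330160000000946480019000000021048000000c100030010000001308004c29860000000098c00260800001300004c000131400000988002618009820000000000131c0000000188b1200000188800000c4c00000627c42000006200018971180000000311800c42000006200000000000000012474000088000000ec1ca0000004d0003b42600000011472000090000000e01d2000000410003842000000190800000c8200320800c880000000000191c0064000191400642c8c00000000c86003218000019000000000128a52000942000004a000128800000942000004a00012965180094c000004a7000002518000000000000000120a430000000024080090800000480000000004800012164080000120800000906000004879060000000000180b03000c0600000607000003008000000000060000181700800c080000060000180800000c0600000000000024040002120000010d2100000010c000034060000000140200020a00000101208000001000000040000000000392f22e4600000000e4dc840000000000393f2000000391000e49c8c00000e420000000000000390000000002d2800b4368400000b4800000000000002d05a0000002d15a2b4c00000000b4768c00000000002d380000000000400000f89900a2000f01a00826001880100000000000402000f81910a0000f09a108060418000000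

/-- product of permutations -/
def mulP (p q : ℕ) : ℕ := Nat.land (Nat.shiftRight T1 (Nat.mul 6 (Nat.add (Nat.mul 60 p) q))) 63

/-- cocycle -/
def coc (x y : ℕ) : ℕ :=
  Nat.land (Nat.shiftRight T3 (Nat.add (Nat.mul 16 (Nat.mod x 16)) (Nat.mod y 16))) 1

/-- product of words -/
def emul (x y : ℕ) : ℕ := Nat.xor (Nat.xor x y) (Nat.mul 16 (coc x y))

/-- action of a permutation on a word -/
def act (p x : ℕ) : ℕ :=
  Nat.xor (Nat.land (Nat.shiftRight T2 (Nat.mul 5 (Nat.add (Nat.mul 16 p) (Nat.mod x 16)))) 31)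
    (Nat.mul 16 (Nat.div x 16))

/-- product of codes -/
def mulN (c d : ℕ) : ℕ :=
  Nat.add (Nat.mul 32 (mulP (Nat.div c 32) (Nat.div d 32)))
    (emul (Nat.mod c 32) (act (Nat.div c 32) (Nat.mod d 32)))

/-- value of a permutation -/
def pv (p k : ℕ) : ℕ := Nat.land (Nat.shiftRight TV (Nat.mul 3 (Nat.add (Nat.mul 5 p) k))) 7

/-- inverse of a permutation -/
def pinv (p : ℕ) : ℕ := Nat.land (Nat.shiftRight TI (Nat.mul 6 p)) 63

/-- conjugating element -/
def wit (i : ℕ) : ℕ := Nat.land (Nat.shiftRight TW (Nat.mul 11 i)) 2047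

/-! ### Loops -/

/-- `f` holds below `n` -/
def allN (n : ℕ) (f : ℕ → Bool) : Bool := Nat.rec true (fun k ih => and (f k) ih) n

theorem allN_spec (n : ℕ) (f : ℕ → Bool) (h : allN n f = true) : ∀ i < n, f i = true := by
  induction n with
  | zero => intro i hi; omega
  | succ n ih =>
    have h1 : and (f n) (allN n f) = true := h
    have h2 : f n = true ∧ allN n f = true := by
      rcases hf : f n with _ | _
      · rw [hf] at h1; exact absurd (show false = true from h1) Bool.false_ne_true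
      · rw [hf] at h1; exact ⟨rfl, h1⟩
    intro i hi
    rcases Nat.lt_succ_iff_lt_or_eq.1 hi with h3 | h3
    · exact ih h2.2 i h3
    · rw [h3]; exact h2.1

/-- counting with accumulator -/
def cnt (f : ℕ → Bool) (n : ℕ) : ℕ → ℕ :=
  Nat.rec (fun acc => acc) (fun k ih acc => Bool.rec (ih acc) (ih (Nat.succ acc)) (f k)) n

theorem cnt_spec (f : ℕ → Bool) (n acc : ℕ) :
    cnt f n acc = acc + ((Finset.range n).filter (fun i => f i = true)).card := by
  induction n generalizing acc with
  | zero => simp [cnt]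
  | succ n ih =>
    have h1 : cnt f (n + 1) acc = Bool.rec (cnt f n acc) (cnt f n (Nat.succ acc)) (f n) := rfl
    rw [h1, Finset.range_add_one, Finset.filter_insert]
    rcases hf : f n with _ | _
    · rw [if_neg (by simp)]
      exact ih acc
    · rw [if_pos rfl, Finset.card_insert_of_notMem (by simp)]
      show cnt f n (acc + 1) = _
      rw [ih]
      omega

/-- implication of Booleans -/
def imp (a b : Bool) : Bool := Bool.rec true b a

theorem imp_spec {a b : Bool} (h : imp a b = true) (ha : a = true) : b = true := by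
  subst ha; exact h

theorem eq_of_beq {m n : ℕ} (h : Nat.beq m n = true) : m = n := Nat.eq_of_beq_eq_true h

theorem beq_of_eq {m n : ℕ} (h : m = n) : Nat.beq m n = true := by
  rw [Nat.beq_eq]; exact h

theorem blt_of_lt {m n : ℕ} (h : m < n) : Nat.ble (Nat.succ m) n = true := Nat.ble_eq_true_of_le h

theorem lt_of_blt {m n : ℕ} (h : Nat.ble (Nat.succ m) n = true) : m < n := Nat.le_of_ble_eq_true h

end Cfsg.Agent.J3Type.CodeTab
end

-- part: J3Type/CodeFacts
section
/-!
# Numerical facts about the coded centralizer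
-/

set_option autoImplicit false
set_option maxRecDepth 100000

namespace Cfsg.Agent.J3Type.CodeFacts

open Cfsg.Agent.J3Type.CodeTab

/-! ### The permutations -/

theorem mulP_lt_b : allN 60 (fun p => allN 60 fun q => Nat.ble (Nat.succ (mulP p q)) 60) = true := by
  decide +kernel

theorem mulP_lt {p q : ℕ} (hp : p < 60) (hq : q < 60) : mulP p q < 60 :=
  lt_of_blt (allN_spec _ _ (allN_spec _ _ mulP_lt_b p hp) q hq)

theorem pinv_b : allN 60 (fun p => and (Nat.ble (Nat.succ (pinv p)) 60) (allN 5 fun k =>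
    and (Nat.ble (Nat.succ (pv p k)) 5) (and (Nat.beq (pv (pinv p) (pv p k)) k)
      (Nat.beq (pv p (pv (pinv p) k)) k)))) = true := by
  decide +kernel

theorem pinv_lt {p : ℕ} (hp : p < 60) : pinv p < 60 := by
  have h := allN_spec _ _ pinv_b p hp
  rw [Bool.and_eq_true] at h
  exact lt_of_blt h.1

theorem pv_lt {p k : ℕ} (hp : p < 60) (hk : k < 5) : pv p k < 5 := by
  have h := allN_spec _ _ pinv_b p hp
  rw [Bool.and_eq_true] at h
  have h2 := allN_spec _ _ h.2 k hk
  rw [Bool.and_eq_true] at h2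
  exact lt_of_blt h2.1

theorem pinv_pv {p k : ℕ} (hp : p < 60) (hk : k < 5) : pv (pinv p) (pv p k) = k := by
  have h := allN_spec _ _ pinv_b p hp
  rw [Bool.and_eq_true] at h
  have h2 := allN_spec _ _ h.2 k hk
  rw [Bool.and_eq_true, Bool.and_eq_true] at h2
  exact eq_of_beq h2.2.1

theorem pv_pinv {p k : ℕ} (hp : p < 60) (hk : k < 5) : pv p (pv (pinv p) k) = k := by
  have h := allN_spec _ _ pinv_b p hp
  rw [Bool.and_eq_true] at h
  have h2 := allN_spec _ _ h.2 k hk
  rw [Bool.and_eq_true, Bool.and_eq_true] at h2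
  exact eq_of_beq h2.2.2

theorem pv_mulP_b : allN 60 (fun p => allN 60 fun q => allN 5 fun k =>
    Nat.beq (pv p (pv q k)) (pv (mulP p q) k)) = true := by
  decide +kernel

theorem pv_mulP {p q k : ℕ} (hp : p < 60) (hq : q < 60) (hk : k < 5) :
    pv p (pv q k) = pv (mulP p q) k :=
  eq_of_beq (allN_spec _ _ (allN_spec _ _ (allN_spec _ _ pv_mulP_b p hp) q hq) k hk)

theorem pv_inj_b : allN 60 (fun p => allN 60 fun q =>
    imp (allN 5 fun k => Nat.beq (pv p k) (pv q k)) (Nat.beq p q)) = true := by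
  decide +kernel

theorem pv_inj {p q : ℕ} (hp : p < 60) (hq : q < 60) (h : ∀ k < 5, pv p k = pv q k) : p = q := by
  have h1 := allN_spec _ _ (allN_spec _ _ pv_inj_b p hp) q hq
  refine eq_of_beq (imp_spec h1 ?_)
  have h2 := h
  clear h h1
  have key : ∀ n, (∀ k < n, pv p k = pv q k) → allN n (fun k => Nat.beq (pv p k) (pv q k)) = true := by
    intro n
    induction n with
    | zero => intro _; rfl
    | succ n ih =>
      intro hn
      show and (Nat.beq (pv p n) (pv q n)) (allN n (fun k => Nat.beq (pv p k) (pv q k))) = true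
      rw [CodeTab.beq_of_eq (hn n (Nat.lt_succ_self n)), ih (fun k hk => hn k (Nat.lt_succ_of_lt hk))]
      rfl
  exact key 5 h2

/-! ### The words -/

theorem emul_lt_b : allN 32 (fun x => allN 32 fun y => Nat.ble (Nat.succ (emul x y)) 32) = true := by
  decide +kernel

theorem emul_lt {x y : ℕ} (hx : x < 32) (hy : y < 32) : emul x y < 32 :=
  lt_of_blt (allN_spec _ _ (allN_spec _ _ emul_lt_b x hx) y hy)

theorem act_lt_b : allN 60 (fun p => allN 32 fun x => Nat.ble (Nat.succ (act p x)) 32) = true := by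
  decide +kernel

theorem act_lt {p x : ℕ} (hp : p < 60) (hx : x < 32) : act p x < 32 :=
  lt_of_blt (allN_spec _ _ (allN_spec _ _ act_lt_b p hp) x hx)

/-- multiply `x` by the generator code `g` if the bit is set -/
def st (g : ℕ) (x : ℕ) (b : Bool) : ℕ := Bool.rec x (emul x g) b

/-- bit test -/
def bt (x k : ℕ) : Bool := Nat.beq (Nat.land (Nat.shiftRight x k) 1) 1

/-- the product of the letters of `y`, with images `g4, g0, ..., g3` of the letters, from `x` -/
def chain (g4 g0 g1 g2 g3 : ℕ) (x y : ℕ) : ℕ :=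
  st g3 (st g2 (st g1 (st g0 (st g4 x (bt y 4)) (bt y 0)) (bt y 1)) (bt y 2)) (bt y 3)

theorem emul_chain_b : allN 32 (fun x => allN 32 fun y =>
    Nat.beq (emul x y) (chain 16 1 2 4 8 x y)) = true := by
  decide +kernel

theorem emul_chain {x y : ℕ} (hx : x < 32) (hy : y < 32) : emul x y = chain 16 1 2 4 8 x y :=
  eq_of_beq (allN_spec _ _ (allN_spec _ _ emul_chain_b x hx) y hy)

theorem act_chain_b : allN 60 (fun p => allN 32 fun y =>
    Nat.beq (act p y) (chain 16 (act p 1) (act p 2) (act p 4) (act p 8) 0 y)) = true := by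
  decide +kernel

theorem act_chain {p y : ℕ} (hp : p < 60) (hy : y < 32) :
    act p y = chain 16 (act p 1) (act p 2) (act p 4) (act p 8) 0 y :=
  eq_of_beq (allN_spec _ _ (allN_spec _ _ act_chain_b p hp) y hy)

/-- the code of the letter `k` -/
def gc (k : ℕ) : ℕ := Nat.shiftRight (Nat.shiftLeft 1 k) 1

/-- the code of `v i * v j` -/
def pairc (i j : ℕ) : ℕ :=
  Bool.rec (Bool.rec (emul 16 (emul (gc i) (gc j))) (emul 16 (gc i)) (Nat.beq j 0)) (gc j) (Nat.beq i 0)

theorem act_gc_b : allN 60 (fun p => allN 4 fun k =>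
    Nat.beq (act p (gc (Nat.succ k))) (pairc (pv p 0) (pv p (Nat.succ k)))) = true := by
  decide +kernel

theorem act_gc {p k : ℕ} (hp : p < 60) (hk : k < 4) : act p (gc (k + 1)) = pairc (pv p 0) (pv p (k + 1)) :=
  eq_of_beq (allN_spec _ _ (allN_spec _ _ act_gc_b p hp) k hk)

theorem noncentral_b : allN 32 (fun x => imp (and (Nat.beq (emul x 1) (emul 1 x)) (and
    (Nat.beq (emul x 2) (emul 2 x)) (and (Nat.beq (emul x 4) (emul 4 x))
    (Nat.beq (emul x 8) (emul 8 x))))) (or (Nat.beq x 0) (Nat.beq x 16))) = true := by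
  decide +kernel

theorem emul_inv_b : allN 32 (fun x => allN 32 fun y =>
    imp (or (Nat.beq (emul x y) 0) (Nat.beq (emul x y) 16)) (or (Nat.beq x y)
      (or (Nat.beq x (Nat.xor y 16)) false))) = true := by
  decide +kernel

/-! ### The roots of the central involution -/

theorem mulN_lt {c d : ℕ} (hc : c < 1920) (hd : d < 1920) : mulN c d < 1920 := by
  have h1 : mulP (c / 32) (d / 32) < 60 := mulP_lt (by omega) (by omega)
  have h2 : emul (c % 32) (act (c / 32) (d % 32)) < 32 := emul_lt (by omega) (act_lt (by omega) (by omega))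
  show 32 * mulP (c / 32) (d / 32) + emul (c % 32) (act (c / 32) (d % 32)) < 1920
  omega

/-- `i ^ (k + 1)` -/
def pw (i : ℕ) (k : ℕ) : ℕ := Nat.rec i (fun _ ih => mulN ih i) k

/-- is conjugate to `x` by the witness -/
def cj (x i : ℕ) : Bool := and (Nat.ble (Nat.succ (wit i)) 1920) (Nat.beq (mulN (wit i) i) (mulN x (wit i)))

theorem cj_spec {x i : ℕ} (h : cj x i = true) : ∃ c < 1920, mulN c i = mulN x c := by
  unfold cj at h
  rw [Bool.and_eq_true] at h
  exact ⟨wit i, lt_of_blt h.1, eq_of_beq h.2⟩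

theorem root4_b : allN 1920 (fun i => imp (Nat.beq (mulN i i) 16) (cj 1 i)) = true := by
  decide +kernel

theorem root4 {i : ℕ} (hi : i < 1920) (h : mulN i i = 16) : ∃ c < 1920, mulN c i = mulN 1 c :=
  cj_spec (imp_spec (allN_spec _ _ root4_b i hi) (CodeTab.beq_of_eq h))

theorem root6_b : allN 1920 (fun i => imp (Nat.beq (pw i 2) 16)
    (or (Nat.beq i 16) (cj 496 i))) = true := by
  decide +kernel

theorem root6 {i : ℕ} (hi : i < 1920) (h : pw i 2 = 16) (h' : i ≠ 16) :
    ∃ c < 1920, mulN c i = mulN 496 c := by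
  have h1 := imp_spec (allN_spec _ _ root6_b i hi) (CodeTab.beq_of_eq h)
  rcases Bool.or_eq_true _ _ ▸ h1 with h2 | h2
  · exact absurd (eq_of_beq h2) h'
  · exact cj_spec h2

theorem root8_b : allN 1920 (fun i => imp (Nat.beq (pw i 3) 16) (cj 97 i)) = true := by
  decide +kernel

theorem root8 {i : ℕ} (hi : i < 1920) (h : pw i 3 = 16) : ∃ c < 1920, mulN c i = mulN 97 c :=
  cj_spec (imp_spec (allN_spec _ _ root8_b i hi) (CodeTab.beq_of_eq h))

theorem root12_b : allN 1920 (fun i => imp (Nat.beq (pw i 5) 16)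
    (or (Nat.beq (pw i 3) 0) (cj 492 i))) = true := by
  decide +kernel

theorem root12 {i : ℕ} (hi : i < 1920) (h : pw i 5 = 16) (h' : pw i 3 ≠ 0) :
    ∃ c < 1920, mulN c i = mulN 492 c := by
  have h1 := imp_spec (allN_spec _ _ root12_b i hi) (CodeTab.beq_of_eq h)
  rcases Bool.or_eq_true _ _ ▸ h1 with h2 | h2
  · exact absurd (eq_of_beq h2) h'
  · exact cj_spec h2

theorem root10_b : allN 1920 (fun i => imp (Nat.beq (pw i 4) 16)
    (or (Nat.beq i 16) (or (cj 528 i) (cj 1456 i)))) = true := by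
  decide +kernel

theorem root10 {i : ℕ} (hi : i < 1920) (h : pw i 4 = 16) (h' : i ≠ 16) :
    (∃ c < 1920, mulN c i = mulN 528 c) ∨ (∃ c < 1920, mulN c i = mulN 1456 c) := by
  have h1 := imp_spec (allN_spec _ _ root10_b i hi) (CodeTab.beq_of_eq h)
  rcases Bool.or_eq_true _ _ ▸ h1 with h2 | h2
  · exact absurd (eq_of_beq h2) h'
  · rcases Bool.or_eq_true _ _ ▸ h2 with h3 | h3
    · exact Or.inl (cj_spec h3)
    · exact Or.inr (cj_spec h3)

theorem root16_b : allN 1920 (fun i => imp (Nat.beq (pw i 7) 16) false) = true := by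
  decide +kernel

theorem root16 {i : ℕ} (hi : i < 1920) (h : pw i 7 = 16) : False :=
  absurd (imp_spec (allN_spec _ _ root16_b i hi) (CodeTab.beq_of_eq h)) Bool.false_ne_true

theorem ten_b : allN 1920 (fun c => imp (Nat.beq (mulN c 528) (mulN 1456 c)) false) = true := by
  decide +kernel

theorem ten {c : ℕ} (hc : c < 1920) (h : mulN c 528 = mulN 1456 c) : False :=
  absurd (imp_spec (allN_spec _ _ ten_b c hc) (CodeTab.beq_of_eq h)) Bool.false_ne_true

/-! ### Centralizers and pairs of involutions -/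

/-- commutes with `x` -/
def cm (x i : ℕ) : Bool := Nat.beq (mulN i x) (mulN x i)

theorem card_cm4 : cnt (cm 1) 1920 0 = 96 := by decide +kernel
theorem card_cm6 : cnt (cm 496) 1920 0 = 24 := by decide +kernel
theorem card_cm8 : cnt (cm 97) 1920 0 = 8 := by decide +kernel
theorem card_cm12 : cnt (cm 492) 1920 0 = 12 := by decide +kernel
theorem card_cm10a : cnt (cm 528) 1920 0 = 10 := by decide +kernel
theorem card_cm10b : cnt (cm 1456) 1920 0 = 10 := by decide +kernel

/-- `i` and `i * x` are involutions -/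
def ip (x i : ℕ) : Bool :=
  and (Nat.beq (mulN i i) 0) (and (Nat.ble 1 i) (and (Nat.beq (mulN (mulN i x) (mulN i x)) 0)
    (Nat.ble 1 (mulN i x))))

theorem card_ip2 : cnt (ip 16) 1920 0 = 130 := by decide +kernel
theorem card_ip4 : cnt (ip 1) 1920 0 = 28 := by decide +kernel
theorem card_ip6 : cnt (ip 496) 1920 0 = 12 := by decide +kernel
theorem card_ip8 : cnt (ip 97) 1920 0 = 8 := by decide +kernel
theorem card_ip12 : cnt (ip 492) 1920 0 = 12 := by decide +kernel
theorem card_ip10a : cnt (ip 528) 1920 0 = 10 := by decide +kernel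
theorem card_ip10b : cnt (ip 1456) 1920 0 = 10 := by decide +kernel

/-! ### Powers of the representatives -/

theorem pow_reps : pw 1 1 = 16 ∧ pw 496 2 = 16 ∧ pw 97 3 = 16 ∧ pw 492 5 = 16 ∧ pw 528 4 = 16 ∧
    pw 1456 4 = 16 ∧ pw 528 2 = 1456 ∧ pw 492 3 ≠ 0 ∧ pw 528 1 = 1024 ∧ pw 528 3 = 1536 := by
  decide +kernel

/-! ### Subgroups -/

/-- class of an element of 2-power order -/
def cl (i : ℕ) : ℕ :=
  Bool.rec (Bool.rec (Bool.rec (Bool.rec 4 3 (Nat.beq (pw i 7) 0)) 2 (Nat.beq (pw i 3) 0)) 1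
    (Nat.beq (pw i 1) 0)) 0 (Nat.beq i 0)

/-- closed under multiplication, tested with a mask -/
def closed (M : ℕ) (L : List ℕ) : Bool :=
  L.all fun a => L.all fun b => bt M (mulN a b)

/-- all elements of the mask are in the list -/
def masked (M : ℕ) (L : List ℕ) : Bool :=
  allN 1920 fun i => imp (bt M i) (L.any fun a => Nat.beq a i)

/-- strictly increasing, below 1920 -/
def sorted (L : List ℕ) : Bool :=
  List.rec (motive := fun _ => ℕ → Bool) (fun _ => true) (fun a _ ih n => and (Nat.ble n a)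
    (and (Nat.ble (Nat.succ a) 1920) (ih (Nat.succ a)))) L 0

/-- elements of a subgroup of order 32 -/
def LE : List ℕ := [0, 1, 2, 3, 4, 5, 6, 7, 8, 9, 10, 11, 12, 13, 14, 15, 16, 17, 18, 19, 20, 21, 22, 23, 24, 25, 26, 27, 28, 29, 30, 31]

/-- mask of a subgroup of order 32 -/
def ME : ℕ := 0xffffffff

theorem closedE : closed ME LE = true := by decide +kernel

theorem maskedE : masked ME LE = true := by decide +kernel

theorem sortedE : sorted LE = true := by decide +kernel

/-- elements of a subgroup of order 64 -/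
def LT : List ℕ := [0, 1, 2, 3, 4, 5, 6, 7, 16, 17, 18, 19, 20, 21, 22, 23, 416, 417, 418, 419, 420, 421, 422, 423, 432, 433, 434, 435, 436, 437, 438, 439, 960, 961, 962, 963, 964, 965, 966, 967, 976, 977, 978, 979, 980, 981, 982, 983, 1376, 1377, 1378, 1379, 1380, 1381, 1382, 1383, 1392, 1393, 1394, 1395, 1396, 1397, 1398, 1399]

/-- mask of a subgroup of order 64 -/
def MT : ℕ := 0xff00ff00000000000000000000000000000000000000000000000000000000000000000000000000000000000000000000000000ff00ff0000000000000000000000000000000000000000000000000000000000000000000000000000000000000000000000000000000000000000000000000000000000ff00ff00000000000000000000000000000000000000000000000000000000000000000000000000000000000000000000000000ff00ff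

theorem closedT : closed MT LT = true := by decide +kernel

theorem maskedT : masked MT LT = true := by decide +kernel

theorem sortedT : sorted LT = true := by decide +kernel

/-- elements of a subgroup of order 32 -/
def LA : List ℕ := [0, 3, 4, 7, 16, 19, 20, 23, 416, 419, 420, 423, 432, 435, 436, 439, 960, 963, 964, 967, 976, 979, 980, 983, 1376, 1379, 1380, 1383, 1392, 1395, 1396, 1399]

/-- mask of a subgroup of order 32 -/
def MA : ℕ := 0x99009900000000000000000000000000000000000000000000000000000000000000000000000000000000000000000000000000990099000000000000000000000000000000000000000000000000000000000000000000000000000000000000000000000000000000000000000000000000000000000099009900000000000000000000000000000000000000000000000000000000000000000000000000000000000000000000000000990099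

theorem closedA : closed MA LA = true := by decide +kernel

theorem maskedA : masked MA LA = true := by decide +kernel

theorem sortedA : sorted LA = true := by decide +kernel

/-- elements of a subgroup of order 128 -/
def LS : List ℕ := [0, 1, 2, 3, 4, 5, 6, 7, 8, 9, 10, 11, 12, 13, 14, 15, 16, 17, 18, 19, 20, 21, 22, 23, 24, 25, 26, 27, 28, 29, 30, 31, 416, 417, 418, 419, 420, 421, 422, 423, 424, 425, 426, 427, 428, 429, 430, 431, 432, 433, 434, 435, 436, 437, 438, 439, 440, 441, 442, 443, 444, 445, 446, 447, 960, 961, 962, 963, 964, 965, 966, 967, 968, 969, 970, 971, 972, 973, 974, 975, 976, 977, 978, 979, 980, 981, 982, 983, 984, 985, 986, 987, 988, 989, 990, 991, 1376, 1377, 1378, 1379, 1380, 1381, 1382, 1383, 1384, 1385, 1386, 1387, 1388, 1389, 1390, 1391, 1392, 1393, 1394, 1395, 1396, 1397, 1398, 1399, 1400, 1401, 1402, 1403, 1404, 1405, 1406, 1407]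

/-- mask of a subgroup of order 128 -/
def MS : ℕ := 0xffffffff000000000000000000000000000000000000000000000000000000000000000000000000000000000000000000000000ffffffff00000000000000000000000000000000000000000000000000000000000000000000000000000000000000000000000000000000000000000000000000000000ffffffff000000000000000000000000000000000000000000000000000000000000000000000000000000000000000000000000ffffffff

theorem closedS : closed MS LS = true := by decide +kernel

theorem maskedS : masked MS LS = true := by decide +kernel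

theorem sortedS : sorted LS = true := by decide +kernel

/-- elements of a subgroup of order 10 -/
def LX : List ℕ := [0, 16, 512, 528, 1024, 1040, 1440, 1456, 1536, 1552]

/-- mask of a subgroup of order 10 -/
def MX : ℕ := 0x10001000000000000000000010001000000000000000000000000000000000000000000000000000000000000000000000000000000000000000000000000000100010000000000000000000000000000000000000000000000000000000000000000000000000000000000000000000000000000000000000000000000000001000100000000000000000000000000000000000000000000000000000000000000000000000000000000000000000000000000000000000000000000000000010001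

theorem closedX : closed MX LX = true := by decide +kernel

theorem maskedX : masked MX LX = true := by decide +kernel

theorem sortedX : sorted LX = true := by decide +kernel

theorem clE : (LE.map cl).count 0 = 1 ∧ (LE.map cl).count 1 = 11 ∧ (LE.map cl).count 2 = 20 ∧
    (LE.map cl).count 3 = 0 ∧ LE.length = 32 := by decide +kernel

theorem clT : (LT.map cl).count 0 = 1 ∧ (LT.map cl).count 1 = 27 ∧ (LT.map cl).count 2 = 36 ∧
    (LT.map cl).count 3 = 0 ∧ LT.length = 64 := by decide +kernel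

theorem clA : (LA.map cl).count 0 = 1 ∧ (LA.map cl).count 1 = 19 ∧ (LA.map cl).count 2 = 12 ∧
    (LA.map cl).count 3 = 0 ∧ LA.length = 32 := by decide +kernel

theorem cl_lt : (LE.map cl).all (fun m => Nat.ble m 3) = true ∧
    (LT.map cl).all (fun m => Nat.ble m 3) = true ∧ (LA.map cl).all (fun m => Nat.ble m 3) = true ∧
    (LS.map cl).all (fun m => Nat.ble m 3) = true := by decide +kernel

theorem clS : (LS.map cl).count 0 = 1 ∧ (LS.map cl).count 1 = 35 ∧ (LS.map cl).count 2 = 44 ∧
    (LS.map cl).count 3 = 48 ∧ LS.length = 128 := by decide +kernel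


end Cfsg.Agent.J3Type.CodeFacts
end

-- part: J3Type/CodeGroup
section
/-!
# Groups with a coded involution centralizer

`Coded t D`: the centralizer of `t` is enumerated by `D` with the coded multiplication.
-/

set_option autoImplicit false

namespace Cfsg.Agent.J3Type.CodeGroup

open Cfsg.Agent.J3Type.CodeTab Cfsg.Agent.J3Type.CodeFacts

/-- the centralizer of `t` is the coded group -/
structure Coded {G : Type*} [Group G] (t : G) (D : ℕ → G) : Prop where
  inj : ∀ i < 1920, ∀ j < 1920, D i = D j → i = j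
  comm : ∀ i < 1920, D i * t = t * D i
  surj : ∀ g, g * t = t * g → ∃ i < 1920, D i = g
  mul : ∀ i < 1920, ∀ j < 1920, D i * D j = D (mulN i j)
  t_eq : D 16 = t

variable {G : Type*} [Group G] {t : G} {D : ℕ → G}

theorem mulN_zero_zero : mulN 0 0 = 0 := by decide +kernel

theorem mulN_16_16 : mulN 16 16 = 0 := by decide +kernel

theorem Coded.one (h : Coded t D) : D 0 = 1 := by
  have h1 := h.mul 0 (by norm_num) 0 (by norm_num)
  rw [mulN_zero_zero] at h1
  exact mul_eq_left.1 h1

theorem Coded.sq (h : Coded t D) : t * t = 1 := by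
  rw [← h.t_eq, h.mul 16 (by norm_num) 16 (by norm_num), mulN_16_16, h.one]

theorem Coded.t_ne (h : Coded t D) : t ≠ 1 := by
  intro h1
  rw [← h.t_eq, ← h.one] at h1
  exact absurd (h.inj 16 (by norm_num) 0 (by norm_num) h1) (by norm_num)

theorem Coded.t_order (h : Coded t D) : orderOf t = 2 := by
  rw [orderOf_eq_prime_iff]
  exact ⟨by rw [_root_.sq, h.sq], h.t_ne⟩

theorem pw_lt {i : ℕ} (hi : i < 1920) (k : ℕ) : pw i k < 1920 := by
  induction k with
  | zero => exact hi
  | succ k ih => exact mulN_lt ih hi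

theorem Coded.pw (h : Coded t D) {i : ℕ} (hi : i < 1920) (k : ℕ) : D (pw i k) = D i ^ (k + 1) := by
  induction k with
  | zero => rw [pow_one]; rfl
  | succ k ih =>
    have h1 : CodeFacts.pw i (k + 1) = mulN (CodeFacts.pw i k) i := rfl
    rw [h1, ← h.mul _ (pw_lt hi k) _ hi, ih, ← pow_succ]

theorem Coded.pw_eq (h : Coded t D) {i j : ℕ} (hi : i < 1920) (hj : j < 1920) (k : ℕ) :
    D i ^ (k + 1) = D j ↔ CodeFacts.pw i k = j := by
  rw [← h.pw hi]
  constructor
  · exact h.inj _ (pw_lt hi k) _ hj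
  · intro e; rw [e]

theorem Coded.pw_t (h : Coded t D) {i : ℕ} (hi : i < 1920) (k : ℕ) :
    D i ^ (k + 1) = t ↔ CodeFacts.pw i k = 16 := by
  rw [← h.pw_eq hi (by norm_num : 16 < 1920) k, h.t_eq]

theorem Coded.pw_one (h : Coded t D) {i : ℕ} (hi : i < 1920) (k : ℕ) :
    D i ^ (k + 1) = 1 ↔ CodeFacts.pw i k = 0 := by
  rw [← h.pw_eq hi (by norm_num : 0 < 1920) k, h.one]

/-- conjugacy inside the centralizer -/
theorem Coded.conj (h : Coded t D) {x i : ℕ} (hx : x < 1920) (hi : i < 1920)
    (hc : ∃ c < 1920, mulN c i = mulN x c) : IsConj (D x) (D i) := by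
  obtain ⟨c, hc, e⟩ := hc
  rw [isConj_iff]
  refine ⟨(D c)⁻¹, ?_⟩
  have h1 : D c * D i = D x * D c := by
    rw [h.mul c hc i hi, h.mul x hx c hc, e]
  rw [inv_inv, mul_assoc, ← h1, inv_mul_cancel_left]

/-- the roots of conjugates of `t` are conjugate into the centralizer -/
theorem Coded.root (h : Coded t D) {g : G} {m : ℕ} (hg : IsConj t (g ^ m)) :
    ∃ i < 1920, IsConj (D i) g ∧ D i ^ m = t := by
  rw [isConj_iff] at hg
  obtain ⟨c, hc⟩ := hg
  have h1 : (c⁻¹ * g * c) ^ m = t := by
    have : (c⁻¹ * g * c) ^ m = c⁻¹ * g ^ m * c := by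
      have := conj_pow (i := m) (a := c⁻¹) (b := g)
      rw [inv_inv] at this
      exact this
    rw [this, ← hc]; group
  have h2 : (c⁻¹ * g * c) * t = t * (c⁻¹ * g * c) := by
    rw [← h1, ← pow_succ, ← pow_succ']
  obtain ⟨i, hi, e⟩ := h.surj _ h2
  refine ⟨i, hi, ?_, by rw [e, h1]⟩
  rw [isConj_iff, e]
  exact ⟨c, by group⟩

/-- counting in the centralizer -/
theorem Coded.card (h : Coded t D) {p : G → Prop} {f : ℕ → Bool}
    (h1 : ∀ g, p g → g * t = t * g) (h2 : ∀ i < 1920, (p (D i) ↔ f i = true)) :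
    Nat.card {g // p g} = cnt f 1920 0 := by
  rw [cnt_spec, zero_add]
  have h3 : Nat.card {i // i ∈ (Finset.range 1920).filter (fun i => f i = true)}
      = ((Finset.range 1920).filter (fun i => f i = true)).card := by
    rw [Nat.card_eq_fintype_card, Fintype.card_coe]
  rw [← h3]
  symm
  apply Nat.card_congr
  refine Equiv.ofBijective (fun i => ⟨D i.1, ?_⟩) ⟨?_, ?_⟩
  · have := i.2
    rw [Finset.mem_filter, Finset.mem_range] at this
    exact (h2 _ this.1).2 this.2
  · rintro ⟨i, hi⟩ ⟨k, hk⟩ e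
    rw [Finset.mem_filter, Finset.mem_range] at hi hk
    have e' : D i = D k := congrArg Subtype.val e
    have := h.inj i hi.1 k hk.1 e'
    subst this
    rfl
  · rintro ⟨g, hg⟩
    obtain ⟨i, hi, e⟩ := h.surj g (h1 g hg)
    refine ⟨⟨i, ?_⟩, Subtype.ext e⟩
    rw [Finset.mem_filter, Finset.mem_range]
    exact ⟨hi, (h2 i hi).1 (by rw [e]; exact hg)⟩

theorem Coded.card_centralizer_t (h : Coded t D) :
    Nat.card (Subgroup.centralizer ({t} : Set G)) = 1920 := by
  have h1 : Nat.card {i // i ∈ Finset.range 1920} = 1920 := by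
    rw [Nat.card_eq_fintype_card, Fintype.card_coe, Finset.card_range]
  rw [← h1]
  symm
  apply Nat.card_congr
  refine Equiv.ofBijective (fun i => ⟨D i.1, ?_⟩) ⟨?_, ?_⟩
  · rw [Subgroup.mem_centralizer_singleton_iff]
    exact h.comm _ (Finset.mem_range.1 i.2)
  · rintro ⟨i, hi⟩ ⟨k, hk⟩ e
    have e' : D i = D k := congrArg Subtype.val e
    have := h.inj i (Finset.mem_range.1 hi) k (Finset.mem_range.1 hk) e'
    subst this
    rfl
  · rintro ⟨g, hg⟩
    rw [Subgroup.mem_centralizer_singleton_iff] at hg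
    obtain ⟨i, hi, e⟩ := h.surj g hg
    exact ⟨⟨i, Finset.mem_range.2 hi⟩, Subtype.ext e⟩

theorem Coded.card_centralizer (h : Coded t D) {x m : ℕ} (hx : x < 1920) (hm : D x ^ m = t) :
    Nat.card (Subgroup.centralizer ({D x} : Set G)) = cnt (cm x) 1920 0 := by
  have h1 : Nat.card (Subgroup.centralizer ({D x} : Set G)) = Nat.card {g : G // g * D x = D x * g} := by
    apply Nat.card_congr
    refine Equiv.subtypeEquivRight fun g => ?_
    exact Subgroup.mem_centralizer_singleton_iff
  rw [h1]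
  apply h.card
  · intro g hg
    rw [← hm]
    exact (Commute.pow_right hg m)
  · intro i hi
    rw [h.mul i hi x hx, h.mul x hx i hi]
    unfold cm
    constructor
    · intro e
      exact CodeTab.beq_of_eq (h.inj _ (mulN_lt hi hx) _ (mulN_lt hx hi) e)
    · intro e
      rw [eq_of_beq e]

/-- number of pairs of conjugates of `t` with a given product -/
theorem Coded.card_pairs (h : Coded t D) (hall : ∀ g : G, orderOf g = 2 → IsConj t g)
    {x m : ℕ} (hx : x < 1920) (hm : D x ^ m = t) :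
    Nat.card {p : G × G // IsConj t p.1 ∧ IsConj t p.2 ∧ p.1 * p.2 = D x} = cnt (ip x) 1920 0 := by
  have hinv : ∀ g : G, IsConj t g ↔ (g * g = 1 ∧ g ≠ 1) := by
    intro g
    constructor
    · intro hg
      rw [isConj_iff] at hg
      obtain ⟨c, rfl⟩ := hg
      constructor
      · calc c * t * c⁻¹ * (c * t * c⁻¹) = c * (t * t) * c⁻¹ := by group
          _ = 1 := by rw [h.sq]; group
      · intro e
        apply h.t_ne
        have : t = c⁻¹ * (c * t * c⁻¹) * c := by group
        rw [this, e]; group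
    · rintro ⟨h1, h2⟩
      apply hall
      rw [orderOf_eq_prime_iff]
      exact ⟨by rw [_root_.sq, h1], h2⟩
  have h1 : Nat.card {p : G × G // IsConj t p.1 ∧ IsConj t p.2 ∧ p.1 * p.2 = D x}
      = Nat.card {g : G // (g * g = 1 ∧ g ≠ 1) ∧ ((g * D x) * (g * D x) = 1 ∧ g * D x ≠ 1)} := by
    apply Nat.card_congr
    refine ⟨fun p => ⟨p.1.1, ?_⟩, fun g => ⟨(g.1, g.1 * D x), ?_⟩, ?_, ?_⟩
    · obtain ⟨⟨u, v⟩, hu, hv, huv⟩ := p
      rw [hinv] at hu hv
      simp only at hu hv huv ⊢
      have : u * D x = v := by rw [← huv, ← mul_assoc, hu.1, one_mul]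
      rw [this]
      exact ⟨hu, hv⟩
    · obtain ⟨g, hg, hg'⟩ := g
      refine ⟨(hinv _).2 hg, (hinv _).2 hg', ?_⟩
      show g * (g * D x) = D x
      rw [← mul_assoc, hg.1, one_mul]
    · rintro ⟨⟨u, v⟩, hu, hv, huv⟩
      rw [hinv] at hu
      apply Subtype.ext
      apply Prod.ext
      · rfl
      · show u * D x = v
        simp only at huv hu
        rw [← huv, ← mul_assoc, hu.1, one_mul]
    · rintro ⟨g, hg⟩
      rfl
  rw [h1]
  apply h.card
  · rintro g ⟨⟨hg1, -⟩, hg2, -⟩
    have h2 : g * D x * g = (D x)⁻¹ := by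
      apply eq_inv_of_mul_eq_one_left
      rw [mul_assoc]; exact hg2
    have hg3 : g⁻¹ = g := inv_eq_of_mul_eq_one_left hg1
    have h3 : g * t * g = t⁻¹ := by
      have h4 : (g * D x * g⁻¹) ^ m = g * t * g⁻¹ := by
        rw [conj_pow, hm]
      rw [hg3] at h4
      rw [← h4, h2, inv_pow, hm]
    have h5 : t⁻¹ = t := inv_eq_of_mul_eq_one_left h.sq
    rw [h5] at h3
    calc g * t = g * t * (g * g) := by rw [hg1, mul_one]
      _ = (g * t * g) * g := by group
      _ = t * g := by rw [h3]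
  · intro i hi
    have hix := mulN_lt hi hx
    rw [h.mul i hi x hx, h.mul i hi i hi, h.mul _ hix _ hix, ← h.one]
    unfold ip
    rw [Bool.and_eq_true, Bool.and_eq_true, Bool.and_eq_true]
    constructor
    · rintro ⟨⟨a1, a2⟩, a3, a4⟩
      refine ⟨CodeTab.beq_of_eq (h.inj _ (mulN_lt hi hi) _ (by norm_num) a1), ?_,
        CodeTab.beq_of_eq (h.inj _ (mulN_lt hix hix) _ (by norm_num) a3), ?_⟩
      · apply Nat.ble_eq_true_of_le
        rcases Nat.eq_zero_or_pos i with h0 | h0
        · rw [h0] at a2; exact absurd rfl a2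
        · exact h0
      · apply Nat.ble_eq_true_of_le
        rcases Nat.eq_zero_or_pos (mulN i x) with h0 | h0
        · rw [h0] at a4; exact absurd rfl a4
        · exact h0
    · rintro ⟨a1, a2, a3, a4⟩
      have b2 : 1 ≤ i := Nat.le_of_ble_eq_true a2
      have b4 : 1 ≤ mulN i x := Nat.le_of_ble_eq_true a4
      refine ⟨⟨by rw [eq_of_beq a1], ?_⟩, by rw [eq_of_beq a3], ?_⟩
      · intro e
        have := h.inj i hi 0 (by norm_num) e
        omega
      · intro e
        have := h.inj _ hix 0 (by norm_num) e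
        omega

/-! ### Classes -/

theorem Coded.pow4 (h : Coded t D) : D 1 ^ 2 = t := (h.pw_t (by norm_num) 1).2 pow_reps.1
theorem Coded.pow6 (h : Coded t D) : D 496 ^ 3 = t := (h.pw_t (by norm_num) 2).2 pow_reps.2.1
theorem Coded.pow8 (h : Coded t D) : D 97 ^ 4 = t := (h.pw_t (by norm_num) 3).2 pow_reps.2.2.1
theorem Coded.pow12 (h : Coded t D) : D 492 ^ 6 = t := (h.pw_t (by norm_num) 5).2 pow_reps.2.2.2.1
theorem Coded.pow10a (h : Coded t D) : D 528 ^ 5 = t :=
  (h.pw_t (by norm_num) 4).2 pow_reps.2.2.2.2.1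
theorem Coded.pow10b (h : Coded t D) : D 1456 ^ 5 = t :=
  (h.pw_t (by norm_num) 4).2 pow_reps.2.2.2.2.2.1
theorem Coded.pow10ab (h : Coded t D) : D 528 ^ 3 = D 1456 :=
  (h.pw_eq (by norm_num) (by norm_num) 2).2 pow_reps.2.2.2.2.2.2.1
theorem Coded.pow12' (h : Coded t D) : D 492 ^ 4 ≠ 1 := by
  intro h1
  exact pow_reps.2.2.2.2.2.2.2.1 ((h.pw_one (by norm_num) 3).1 h1)

/-- order from a power equal to `t` -/
theorem Coded.order_dvd (h : Coded t D) {g : G} {m : ℕ} (hg : g ^ m = t) :
    orderOf g ∣ 2 * m ∧ ¬ orderOf g ∣ m := by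
  constructor
  · apply orderOf_dvd_of_pow_eq_one
    rw [mul_comm, pow_mul, hg, _root_.sq, h.sq]
  · intro h1
    rw [orderOf_dvd_iff_pow_eq_one, hg] at h1
    exact h.t_ne h1

theorem Coded.ne (h : Coded t D) {i j : ℕ} (hi : i < 1920) (hj : j < 1920) (hij : i ≠ j) : D i ≠ D j :=
  fun e => hij (h.inj i hi j hj e)

theorem Coded.order4 (h : Coded t D) : orderOf (D 1) = 4 := by
  obtain ⟨h1, h2⟩ := h.order_dvd h.pow4
  have h3 : orderOf (D 1) ≤ 4 := Nat.le_of_dvd (by norm_num) h1
  interval_cases orderOf (D 1) <;> revert h1 h2 <;> decide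

theorem Coded.order8 (h : Coded t D) : orderOf (D 97) = 8 := by
  obtain ⟨h1, h2⟩ := h.order_dvd h.pow8
  have h3 : orderOf (D 97) ≤ 8 := Nat.le_of_dvd (by norm_num) h1
  interval_cases orderOf (D 97) <;> revert h1 h2 <;> decide

theorem order_ne_two (h : Coded t D) {i m : ℕ} (hi : i < 1920) (hi' : i ≠ 16)
    (hm : D i ^ (2 * m + 1) = t) : orderOf (D i) ≠ 2 := by
  intro h1
  have h2 : D i ^ 2 = 1 := by rw [← h1]; exact pow_orderOf_eq_one _
  rw [pow_succ, pow_mul, h2, one_pow, one_mul, ← h.t_eq] at hm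
  exact hi' (h.inj i hi 16 (by norm_num) hm)

theorem Coded.order6 (h : Coded t D) : orderOf (D 496) = 6 := by
  obtain ⟨h1, h2⟩ := h.order_dvd h.pow6
  have h3 : orderOf (D 496) ≤ 6 := Nat.le_of_dvd (by norm_num) h1
  have h4 := order_ne_two h (i := 496) (m := 1) (by norm_num) (by norm_num) h.pow6
  interval_cases orderOf (D 496) <;> revert h1 h2 h4 <;> decide

theorem Coded.order10a (h : Coded t D) : orderOf (D 528) = 10 := by
  obtain ⟨h1, h2⟩ := h.order_dvd h.pow10a
  have h3 : orderOf (D 528) ≤ 10 := Nat.le_of_dvd (by norm_num) h1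
  have h4 := order_ne_two h (i := 528) (m := 2) (by norm_num) (by norm_num) h.pow10a
  interval_cases orderOf (D 528) <;> revert h1 h2 h4 <;> decide

theorem Coded.order10b (h : Coded t D) : orderOf (D 1456) = 10 := by
  obtain ⟨h1, h2⟩ := h.order_dvd h.pow10b
  have h3 : orderOf (D 1456) ≤ 10 := Nat.le_of_dvd (by norm_num) h1
  have h4 := order_ne_two h (i := 1456) (m := 2) (by norm_num) (by norm_num) h.pow10b
  interval_cases orderOf (D 1456) <;> revert h1 h2 h4 <;> decide

theorem Coded.order12 (h : Coded t D) : orderOf (D 492) = 12 := by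
  obtain ⟨h1, h2⟩ := h.order_dvd h.pow12
  have h3 : orderOf (D 492) ≤ 12 := Nat.le_of_dvd (by norm_num) h1
  have h4 : orderOf (D 492) ≠ 4 := by
    intro h5
    apply h.pow12'
    rw [← h5]; exact pow_orderOf_eq_one _
  interval_cases orderOf (D 492) <;> revert h1 h2 h4 <;> decide

theorem orderOf_conj' {a b : G} (hab : IsConj a b) : orderOf a = orderOf b := by
  rw [isConj_iff] at hab
  obtain ⟨c, rfl⟩ := hab
  exact (orderOf_injective (MulAut.conj c).toMonoidHom (MulAut.conj c).injective a).symm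

section classes

variable (h : Coded t D) (hall : ∀ g : G, orderOf g = 2 → IsConj t g)

include h hall

theorem conj_four {g : G} (hg : orderOf g = 4) : IsConj (D 1) g := by
  have h1 : orderOf (g ^ 2) = 2 := by
    rw [orderOf_pow' g (by norm_num), hg]; rfl
  obtain ⟨i, hi, h2, h3⟩ := h.root (hall _ h1)
  have h4 : mulN i i = 16 := (h.pw_t hi 1).1 h3
  exact (h.conj (by norm_num) hi (root4 hi h4)).trans h2

theorem conj_eight {g : G} (hg : orderOf g = 8) : IsConj (D 97) g := by
  have h1 : orderOf (g ^ 4) = 2 := by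
    rw [orderOf_pow' g (by norm_num), hg]; rfl
  obtain ⟨i, hi, h2, h3⟩ := h.root (hall _ h1)
  have h4 : CodeFacts.pw i 3 = 16 := (h.pw_t hi 3).1 h3
  exact (h.conj (by norm_num) hi (root8 hi h4)).trans h2

theorem no_sixteen {g : G} (hg : orderOf g = 16) : False := by
  have h1 : orderOf (g ^ 8) = 2 := by
    rw [orderOf_pow' g (by norm_num), hg]; rfl
  obtain ⟨i, hi, h2, h3⟩ := h.root (hall _ h1)
  exact root16 hi ((h.pw_t hi 7).1 h3)

theorem conj_six {g : G} (hg : orderOf g = 6) : IsConj (D 496) g := by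
  have h1 : orderOf (g ^ 3) = 2 := by
    rw [orderOf_pow' g (by norm_num), hg]; rfl
  obtain ⟨i, hi, h2, h3⟩ := h.root (hall _ h1)
  have h4 : CodeFacts.pw i 2 = 16 := (h.pw_t hi 2).1 h3
  have h5 : i ≠ 16 := by
    rintro rfl
    have h6 : orderOf g = 2 := by
      rw [isConj_iff] at h2
      obtain ⟨c, rfl⟩ := h2
      rw [h.t_eq]
      rw [← h.t_order]
      exact orderOf_injective (MulAut.conj c).toMonoidHom (MulAut.conj c).injective t
    omega
  exact (h.conj (by norm_num) hi (root6 hi h4 h5)).trans h2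

theorem conj_twelve {g : G} (hg : orderOf g = 12) : IsConj (D 492) g := by
  have h1 : orderOf (g ^ 6) = 2 := by
    rw [orderOf_pow' g (by norm_num), hg]; rfl
  obtain ⟨i, hi, h2, h3⟩ := h.root (hall _ h1)
  have h4 : CodeFacts.pw i 5 = 16 := (h.pw_t hi 5).1 h3
  have h5 : CodeFacts.pw i 3 ≠ 0 := by
    intro h6
    have h7 : D i ^ 4 = 1 := (h.pw_one hi 3).2 h6
    have h8 : orderOf (D i) ∣ 4 := orderOf_dvd_of_pow_eq_one h7
    rw [orderOf_conj' h2, hg] at h8
    revert h8; decide
  exact (h.conj (by norm_num) hi (root12 hi h4 h5)).trans h2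

theorem conj_ten {g : G} (hg : orderOf g = 10) : IsConj (D 528) g ∨ IsConj (D 1456) g := by
  have h1 : orderOf (g ^ 5) = 2 := by
    rw [orderOf_pow' g (by norm_num), hg]; rfl
  obtain ⟨i, hi, h2, h3⟩ := h.root (hall _ h1)
  have h4 : CodeFacts.pw i 4 = 16 := (h.pw_t hi 4).1 h3
  have h5 : i ≠ 16 := by
    rintro rfl
    have h6 := orderOf_conj' h2
    rw [h.t_eq, h.t_order, hg] at h6
    omega
  rcases root10 hi h4 h5 with h6 | h6
  · exact Or.inl ((h.conj (by norm_num) hi h6).trans h2)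
  · exact Or.inr ((h.conj (by norm_num) hi h6).trans h2)

end classes

/-- the two classes of elements of order 10 are different -/
theorem Coded.not_conj (h : Coded t D) : ¬ IsConj (D 528) (D 1456) := by
  intro h1
  rw [isConj_iff] at h1
  obtain ⟨c, hc⟩ := h1
  have h2 : c * t = t * c := by
    have h3 : c * t * c⁻¹ = t := by
      rw [← h.pow10a, ← conj_pow, hc, h.pow10b, h.pow10a]
    calc c * t = c * t * c⁻¹ * c := by group
      _ = t * c := by rw [h3]
  obtain ⟨i, hi, rfl⟩ := h.surj c h2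
  have h3 : D i * D 528 = D 1456 * D i := by
    rw [← hc]; group
  rw [h.mul i hi 528 (by norm_num), h.mul 1456 (by norm_num) i hi] at h3
  exact ten hi (h.inj _ (mulN_lt hi (by norm_num)) _ (mulN_lt (by norm_num) hi) h3)

end Cfsg.Agent.J3Type.CodeGroup
end

-- part: J3Type/CodeAvg
section
/-!
# Averages of characters over coded subgroups
-/

set_option autoImplicit false

namespace Cfsg.Agent.J3Type.CodeAvg

open scoped ComplexConjugate
open Cfsg.Agent.J3Type.CodeTab Cfsg.Agent.J3Type.CodeFacts Cfsg.Agent.J3Type.CodeGroup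
open Cfsg.Agent.J3Type.CharTools Cfsg.Agent.Characters.Core

universe u

/-- the loop in `sorted` -/
def srt (L : List ℕ) : ℕ → Bool :=
  List.rec (motive := fun _ => ℕ → Bool) (fun _ => true) (fun a _ ih n => and (Nat.ble n a)
    (and (Nat.ble (Nat.succ a) 1920) (ih (Nat.succ a)))) L

theorem srt_spec (L : List ℕ) : ∀ n, srt L n = true → (∀ i ∈ L, n ≤ i ∧ i < 1920) ∧ L.Nodup := by
  induction L with
  | nil => intro n _; simp
  | cons a L ih =>
    intro n h
    have h1 : and (Nat.ble n a) (and (Nat.ble (Nat.succ a) 1920) (srt L (Nat.succ a))) = true := h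
    rw [Bool.and_eq_true, Bool.and_eq_true] at h1
    obtain ⟨h2, h3, h4⟩ := h1
    have h2' : n ≤ a := Nat.le_of_ble_eq_true h2
    have h3' : a < 1920 := Nat.le_of_ble_eq_true h3
    obtain ⟨h5, h6⟩ := ih _ h4
    refine ⟨?_, ?_⟩
    · intro i hi
      rcases List.mem_cons.1 hi with rfl | hi
      · exact ⟨h2', h3'⟩
      · have := h5 i hi
        omega
    · rw [List.nodup_cons]
      refine ⟨fun ha => ?_, h6⟩
      have := h5 a ha
      omega

theorem sorted_spec {L : List ℕ} (h : sorted L = true) : (∀ i ∈ L, i < 1920) ∧ L.Nodup := by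
  have := srt_spec L 0 h
  exact ⟨fun i hi => (this.1 i hi).2, this.2⟩

theorem closed_spec {M : ℕ} {L : List ℕ} (hc : closed M L = true) (hm : masked M L = true)
    (hs : sorted L = true) : ∀ a ∈ L, ∀ b ∈ L, mulN a b ∈ L := by
  intro a ha b hb
  have h1 := sorted_spec hs
  unfold closed at hc
  rw [List.all_eq_true] at hc
  have h2 := hc a ha
  rw [List.all_eq_true] at h2
  have h3 := h2 b hb
  have h4 := imp_spec (allN_spec _ _ hm (mulN a b) (mulN_lt (h1.1 a ha) (h1.1 b hb))) h3
  rw [List.any_eq_true] at h4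
  obtain ⟨c, hc1, hc2⟩ := h4
  rw [← eq_of_beq hc2]
  exact hc1

variable {G : Type u} [Group G] [Finite G] {t : G} {D : ℕ → G}

/-- the subgroup given by a list of codes -/
def sub (h : Coded t D) (L : List ℕ) (h1 : ∀ i ∈ L, i < 1920)
    (h2 : ∀ a ∈ L, ∀ b ∈ L, mulN a b ∈ L) (h0 : 0 ∈ L) : Subgroup G where
  carrier := {g | ∃ i ∈ L, D i = g}
  one_mem' := ⟨0, h0, h.one⟩
  mul_mem' := by
    rintro a b ⟨i, hi, rfl⟩ ⟨j, hj, rfl⟩
    exact ⟨mulN i j, h2 i hi j hj, (h.mul i (h1 i hi) j (h1 j hj)).symm⟩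
  inv_mem' := by
    rintro a ⟨i, hi, rfl⟩
    have key : ∀ k : ℕ, ∃ j ∈ L, D j = D i ^ k := by
      intro k
      induction k with
      | zero => exact ⟨0, h0, by rw [pow_zero, h.one]⟩
      | succ k ih =>
        obtain ⟨j, hj, e⟩ := ih
        exact ⟨mulN j i, h2 j hj i hi, by rw [← h.mul j (h1 j hj) i (h1 i hi), e, pow_succ]⟩
    obtain ⟨j, hj, e⟩ := key (orderOf (D i) - 1)
    refine ⟨j, hj, ?_⟩
    rw [e]
    apply eq_inv_of_mul_eq_one_left
    rw [← pow_succ, Nat.sub_add_cancel (orderOf_pos _), pow_orderOf_eq_one]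

theorem avg (h : Coded t D) {M : ℕ} {L : List ℕ} (hc : closed M L = true) (hm : masked M L = true)
    (hs : sorted L = true) (h0 : 0 ∈ L) {χ : G → ℂ} (hχ : IsCharacter G χ) :
    ∃ n : ℕ, (L.map (fun i => χ (D i))).sum = n * L.length := by
  classical
  have h1 := sorted_spec hs
  have h2 := closed_spec hc hm hs
  set H := sub h L h1.1 h2 h0 with hH
  have hmem : ∀ i ∈ L, D i ∈ H := fun i hi => ⟨i, hi, rfl⟩
  let _ := Fintype.ofFinite H
  obtain ⟨n, hn⟩ := classInner_isNat (isCharacter_comp H.subtype hχ) (isCharacter_one (G := H))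
  have hsum : ∀ f : G → ℂ, ∑ x : H, f x = (L.map (fun i => f (D i))).sum := by
    intro f
    rw [← List.sum_toFinset (fun i => f (D i)) h1.2]
    symm
    refine Finset.sum_bij (fun i hi => ⟨D i, hmem i (List.mem_toFinset.1 hi)⟩) ?_ ?_ ?_ ?_
    · intro i hi
      exact Finset.mem_univ _
    · intro i hi j hj e
      exact h.inj i (h1.1 i (List.mem_toFinset.1 hi)) j (h1.1 j (List.mem_toFinset.1 hj))
        (congrArg Subtype.val e)
    · rintro ⟨g, i, hi, e⟩ _
      exact ⟨i, List.mem_toFinset.2 hi, Subtype.ext e⟩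
    · intro i hi
      rfl
  have hcard : (Nat.card H : ℂ) = L.length := by
    have h3 := hsum (fun _ => 1)
    rw [Finset.sum_const, Finset.card_univ, nsmul_eq_mul, mul_one, ← Nat.card_eq_fintype_card] at h3
    rw [h3]
    simp
  refine ⟨n, ?_⟩
  rw [← hsum χ, ← hn, ← hcard, classInner_def]
  have hne : (Nat.card H : ℂ) ≠ 0 := card_ne_zero_complex
  field_simp
  refine Finset.sum_congr rfl fun x _ => ?_
  simp

theorem sum_count (f : ℕ → ℂ) (M : List ℕ) (hM : M.all (fun m => Nat.ble m 3) = true) :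
    (M.map f).sum = M.count 0 * f 0 + M.count 1 * f 1 + M.count 2 * f 2 + M.count 3 * f 3 := by
  induction M with
  | nil => simp
  | cons a M ih =>
    rw [List.all_cons, Bool.and_eq_true] at hM
    have h1 : a ≤ 3 := Nat.le_of_ble_eq_true hM.1
    rw [List.map_cons, List.sum_cons, ih hM.2, List.count_cons, List.count_cons, List.count_cons,
      List.count_cons]
    interval_cases a <;> simp <;> ring

/-- meaning of `cl` -/
theorem cl_spec (i : ℕ) : (cl i = 0 → i = 0) ∧ (cl i = 1 → i ≠ 0 ∧ pw i 1 = 0) ∧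
    (cl i = 2 → pw i 1 ≠ 0 ∧ pw i 3 = 0) ∧ (cl i = 3 → pw i 3 ≠ 0 ∧ pw i 7 = 0) := by
  unfold cl
  rcases h0 : Nat.beq i 0 with _ | _
  · have g0 : i ≠ 0 := fun e => by
      rw [CodeTab.beq_of_eq e] at h0
      exact absurd h0 (by decide)
    rcases h1 : Nat.beq (pw i 1) 0 with _ | _
    · have g1 : pw i 1 ≠ 0 := fun e => by
        rw [CodeTab.beq_of_eq e] at h1
        exact absurd h1 (by decide)
      rcases h3 : Nat.beq (pw i 3) 0 with _ | _
      · have g3 : pw i 3 ≠ 0 := fun e => by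
          rw [CodeTab.beq_of_eq e] at h3
          exact absurd h3 (by decide)
        rcases h7 : Nat.beq (pw i 7) 0 with _ | _
        · simp
        · simp [g3, eq_of_beq h7]
      · simp [g1, eq_of_beq h3]
    · simp [g0, eq_of_beq h1]
  · simp [eq_of_beq h0]

variable (h : Coded t D) (hall : ∀ g : G, orderOf g = 2 → IsConj t g)

include h hall

omit [Finite G] in
theorem order_two {i : ℕ} (hi : i < 1920) (h0 : i ≠ 0) (h1 : pw i 1 = 0) : IsConj t (D i) := by
  apply hall
  rw [orderOf_eq_prime_iff]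
  refine ⟨(h.pw_one hi 1).2 h1, ?_⟩
  rw [← h.one]
  exact h.ne hi (by norm_num) h0

omit [Finite G] in
theorem order_four {i : ℕ} (hi : i < 1920) (h1 : pw i 1 ≠ 0) (h3 : pw i 3 = 0) :
    IsConj (D 1) (D i) := by
  apply conj_four h hall
  have e1 : D i ^ 4 = 1 := (h.pw_one hi 3).2 h3
  have e2 : D i ^ 2 ≠ 1 := fun e => h1 ((h.pw_one hi 1).1 e)
  exact orderOf_eq_prime_pow (p := 2) (n := 1) e2 e1

omit [Finite G] in
theorem order_eight {i : ℕ} (hi : i < 1920) (h3 : pw i 3 ≠ 0) (h7 : pw i 7 = 0) :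
    IsConj (D 97) (D i) := by
  apply conj_eight h hall
  have e1 : D i ^ 8 = 1 := (h.pw_one hi 7).2 h7
  have e2 : D i ^ 4 ≠ 1 := fun e => h3 ((h.pw_one hi 3).1 e)
  exact orderOf_eq_prime_pow (p := 2) (n := 2) e2 e1

/-- the average over a coded 2-subgroup -/
theorem avg_two {M : ℕ} {L : List ℕ} (hc : closed M L = true) (hm : masked M L = true)
    (hs : sorted L = true) (h0 : 0 ∈ L) (hL : (L.map cl).all (fun m => Nat.ble m 3) = true)
    {χ : G → ℂ} (hχ : IsCharacter G χ) {v1 v2 v4 v8 : ℤ} (e1 : χ 1 = v1) (e2 : χ t = v2)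
    (e4 : χ (D 1) = v4) (e8 : χ (D 97) = v8) : ∃ n : ℤ, (L.map cl).count 0 * v1 +
      (L.map cl).count 1 * v2 + (L.map cl).count 2 * v4 + (L.map cl).count 3 * v8 = n * L.length := by
  obtain ⟨n, hn⟩ := avg h hc hm hs h0 hχ
  refine ⟨n, ?_⟩
  let f : ℕ → ℂ := fun c => if c = 0 then v1 else if c = 1 then v2 else if c = 2 then v4 else v8
  have h1 : L.map (fun i => χ (D i)) = (L.map cl).map f := by
    rw [List.map_map]
    apply List.map_congr_left
    intro i hi
    have hi' := (sorted_spec hs).1 i hi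
    have h2 : cl i ≤ 3 := by
      rw [List.all_eq_true] at hL
      exact Nat.le_of_ble_eq_true (hL (cl i) (List.mem_map_of_mem hi))
    obtain ⟨c0, c1, c2, c3⟩ := cl_spec i
    show χ (D i) = f (cl i)
    have h3 : cl i = 0 ∨ cl i = 1 ∨ cl i = 2 ∨ cl i = 3 := by omega
    rcases h3 with h3 | h3 | h3 | h3
    · rw [h3, c0 h3, h.one]; exact e1
    · rw [h3, ← class_eq hχ (order_two h hall hi' (c1 h3).1 (c1 h3).2)]; exact e2
    · rw [h3, ← class_eq hχ (order_four h hall hi' (c2 h3).1 (c2 h3).2)]; exact e4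
    · rw [h3, ← class_eq hχ (order_eight h hall hi' (c3 h3).1 (c3 h3).2)]; exact e8
  rw [h1, sum_count f _ hL] at hn
  have f0 : f 0 = v1 := rfl
  have f1 : f 1 = v2 := rfl
  have f2 : f 2 = v4 := rfl
  have f3 : f 3 = v8 := rfl
  rw [f0, f1, f2, f3] at hn
  exact_mod_cast hn

end Cfsg.Agent.J3Type.CodeAvg
end

-- part: J3Type/CharRow
section
/-!
# The values of one irreducible character
-/

set_option autoImplicit false

namespace Cfsg.Agent.J3Type.CharRow

open scoped ComplexConjugate
open Cfsg.Agent.J3Type.CodeTab Cfsg.Agent.J3Type.CodeFacts Cfsg.Agent.J3Type.CodeGroup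
open Cfsg.Agent.J3Type.CharTools Cfsg.Agent.Characters.Core Cfsg.Agent.J3Type.CodeAvg

universe u

/-- the values of an irreducible character and their congruences -/
structure Row {G : Type u} [Group G] (t : G) (D : ℕ → G) (s : ℂ) (N : ℤ) (χ : G → ℂ)
    (V : Fin 8 → ℤ) : Prop where
  e0 : χ 1 = V 0
  e1 : χ t = V 1
  e2 : χ (D 1) = V 2
  e3 : χ (D 496) = V 3
  e4 : χ (D 97) = V 4
  e5 : χ (D 492) = V 5
  e6 : χ (D 528) + χ (D 1456) = V 6
  e7 : χ (D 528) - χ (D 1456) = V 7 * s
  hpos : 0 < V 0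
  hdvd : V 0 ∣ N
  c1 : (4 : ℤ) ∣ V 1 - V 2
  c2 : (2 : ℤ) ∣ V 3 - V 5
  c3 : (3 : ℤ) ∣ V 1 - V 3
  c4 : (8 : ℤ) ∣ V 1 + V 2 - 2 * V 4
  c5 : (3 : ℤ) ∣ V 2 - V 5
  c6 : (5 : ℤ) ∣ V 1 + 2 * V 6
  c7 : (2 : ℤ) ∣ V 7 - V 6
  c8 : (128 : ℤ) ∣ V 0 + 35 * V 1 + 44 * V 2 + 48 * V 4

variable {G : Type u} [Group G] [Finite G] {t : G} {D : ℕ → G}

theorem degree_dvd {χ : G → ℂ} (hχ : IsIrrCharacter G χ) {v : ℤ} (hv : χ 1 = v) :
    v ∣ (Nat.card G : ℤ) := by
  obtain ⟨n, ρ, hρ, rfl⟩ := hχ
  have := hρ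
  have h1 := Cfsg.Agent.S0135.result ρ
  rw [Representation.char_one] at hv
  have h2 : v = (Module.finrank ℂ (Fin n → ℂ) : ℤ) := by exact_mod_cast hv.symm
  rw [h2]
  exact_mod_cast h1

theorem rev_a : mulN 352 528 = mulN (pw 528 8) 352 ∧ mulN 352 1456 = mulN (pw 528 6) 352 := by
  decide +kernel

omit [Finite G] in
theorem conj9 (h : Coded t D) : IsConj (D 528) (D 528 ^ 9) := by
  have h1 : D (pw 528 8) = D 528 ^ 9 := h.pw (by norm_num) 8
  rw [← h1]
  exact (h.conj (pw_lt (by norm_num) 8) (by norm_num) ⟨352, by norm_num, rev_a.1⟩).symm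

omit [Finite G] in
theorem conj7 (h : Coded t D) : IsConj (D 528 ^ 3) (D 528 ^ 7) := by
  have h1 : D (pw 528 6) = D 528 ^ 7 := h.pw (by norm_num) 6
  rw [← h1, h.pow10ab]
  exact (h.conj (pw_lt (by norm_num) 6) (by norm_num) ⟨352, by norm_num, rev_a.2⟩).symm

theorem exists_row (h : Coded t D) (hall : ∀ g : G, orderOf g = 2 → IsConj t g) {ζ : ℂ}
    (hζ : ζ ^ 5 = 1) (hs : (ζ + ζ ^ 4 - ζ ^ 2 - ζ ^ 3) ^ 2 = 5) {χ : G → ℂ}
    (hχ : IsIrrCharacter G χ) : ∃ V : Fin 8 → ℤ, Row t D (ζ + ζ ^ 4 - ζ ^ 2 - ζ ^ 3) (Nat.card G) χ V := by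
  have hc := isIrr_isCharacter hχ
  obtain ⟨n, hn, h0⟩ := isIrr_apply_one hχ
  obtain ⟨v2, h2⟩ := int_of_conj hc t (fun m hm => by
    apply hall
    rw [Nat.Coprime.orderOf_pow hm.symm, h.t_order])
  obtain ⟨v4, h4⟩ := int_of_conj hc (D 1) (fun m hm => by
    apply conj_four h hall
    rw [Nat.Coprime.orderOf_pow hm.symm, h.order4])
  obtain ⟨v6, h6⟩ := int_of_conj hc (D 496) (fun m hm => by
    apply conj_six h hall
    rw [Nat.Coprime.orderOf_pow hm.symm, h.order6])
  obtain ⟨v8, h8⟩ := int_of_conj hc (D 97) (fun m hm => by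
    apply conj_eight h hall
    rw [Nat.Coprime.orderOf_pow hm.symm, h.order8])
  obtain ⟨v12, h12⟩ := int_of_conj hc (D 492) (fun m hm => by
    apply conj_twelve h hall
    rw [Nat.Coprime.orderOf_pow hm.symm, h.order12])
  obtain ⟨w, r, hw, hr, hwr⟩ := golden hc h.order10a (conj9 h) (conj7 h) hζ hs
  rw [h.pow10ab] at hw hr
  have h0' : χ 1 = ((n : ℤ) : ℂ) := by rw [h0]; simp
  -- averages
  obtain ⟨nE, hE⟩ := avg_two h hall closedE maskedE sortedE (by decide) cl_lt.1 hc h0' h2 h4 h8
  obtain ⟨nT, hT⟩ := avg_two h hall closedT maskedT sortedT (by decide) cl_lt.2.1 hc h0' h2 h4 h8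
  obtain ⟨nA, hA⟩ := avg_two h hall closedA maskedA sortedA (by decide) cl_lt.2.2.1 hc h0' h2 h4 h8
  obtain ⟨nS, hS⟩ := avg_two h hall closedS maskedS sortedS (by decide) cl_lt.2.2.2 hc h0' h2 h4 h8
  rw [clE.1, clE.2.1, clE.2.2.1, clE.2.2.2.1, clE.2.2.2.2] at hE
  rw [clT.1, clT.2.1, clT.2.2.1, clT.2.2.2.1, clT.2.2.2.2] at hT
  rw [clA.1, clA.2.1, clA.2.2.1, clA.2.2.2.1, clA.2.2.2.2] at hA
  rw [clS.1, clS.2.1, clS.2.2.1, clS.2.2.2.1, clS.2.2.2.2] at hS
  push_cast at hE hT hA hS
  -- congruences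
  have k2 : ((2 : ℕ) : ℤ) ∣ v12 - v6 := by
    refine int_congr hc (D 492) Nat.prime_two h12 ?_
    rw [← h6]
    refine (class_eq hc (conj_six h hall ?_)).symm
    rw [orderOf_pow' _ (by norm_num), h.order12]; rfl
  have k3 : ((3 : ℕ) : ℤ) ∣ v6 - v2 := by
    refine int_congr hc (D 496) Nat.prime_three h6 ?_
    rw [h.pow6]; exact h2
  have k5 : ((3 : ℕ) : ℤ) ∣ v12 - v4 := by
    refine int_congr hc (D 492) Nat.prime_three h12 ?_
    rw [← h4]
    refine (class_eq hc (conj_four h hall ?_)).symm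
    rw [orderOf_pow' _ (by norm_num), h.order12]; rfl
  have k6 : ((5 : ℕ) : ℤ) ∣ w - (v2 + v2) := by
    refine int_congr_two hc (D 528) (D 1456) Nat.prime_five hw ?_ ?_
    · rw [h.pow10a]; exact h2
    · rw [h.pow10b]; exact h2
  push_cast at k2 k3 k5 k6
  have hdv := degree_dvd hχ h0'
  refine ⟨![(n : ℤ), v2, v4, v6, v8, v12, w, r], ?_⟩
  exact
    { e0 := h0'
      e1 := h2
      e2 := h4
      e3 := h6
      e4 := h8
      e5 := h12
      e6 := hw
      e7 := hr
      hpos := by
        show (0 : ℤ) < n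
        omega
      hdvd := hdv
      c1 := by
        show (4 : ℤ) ∣ v2 - v4
        omega
      c2 := by
        show (2 : ℤ) ∣ v6 - v12
        omega
      c3 := by
        show (3 : ℤ) ∣ v2 - v6
        omega
      c4 := by
        show (8 : ℤ) ∣ v2 + v4 - 2 * v8
        omega
      c5 := by
        show (3 : ℤ) ∣ v4 - v12
        omega
      c6 := by
        show (5 : ℤ) ∣ v2 + 2 * w
        omega
      c7 := hwr
      c8 := by
        show (128 : ℤ) ∣ (n : ℤ) + 35 * v2 + 44 * v4 + 48 * v8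
        omega }

end Cfsg.Agent.J3Type.CharRow
end

-- part: J3Type/CharTwo
section
/-!
# The number of 2-elements
-/

set_option autoImplicit false

namespace Cfsg.Agent.J3Type.CharTwo

open scoped ComplexConjugate
open Cfsg.Agent.J3Type.CodeTab Cfsg.Agent.J3Type.CodeFacts Cfsg.Agent.J3Type.CodeGroup
open Cfsg.Agent.J3Type.CharTools Cfsg.Agent.Characters.Core Cfsg.Agent.J3Type.CodeAvg

universe u

variable {G : Type u} [Group G]

/-- the number of elements of 2-power order is divisible by the 2-part of the group order -/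
theorem two_part_dvd [Fintype G] (m n : ℕ) (hmn : Nat.card G = m * n) (hcop : Nat.Coprime m n) :
    m ∣ Nat.card {x : G // orderOf x ∣ m} := by
  classical
  have hcard : 0 < Nat.card G := Nat.card_pos
  have hm0 : m ≠ 0 := by rintro rfl; rw [zero_mul] at hmn; omega
  have hn0 : n ≠ 0 := by rintro rfl; rw [mul_zero] at hmn; omega
  obtain ⟨c, hc, e⟩ := Cfsg.Agent.S0875.result m n hmn hcop (1 : G) (by simp)
    (fun x => if orderOf x ∣ m then (n : ℂ) else 0) (by
      rintro x ⟨v, hv, u, hx, -, hu, -⟩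
      have hv1 : v = 1 := by
        rw [isConj_iff] at hv
        obtain ⟨c, hc⟩ := hv
        calc v = c⁻¹ * (c * v * c⁻¹) * c := by group
          _ = 1 := by rw [hc]; group
      rw [hv1, mul_one] at hx
      subst hx
      show (if orderOf x ∣ m then (n : ℂ) else 0) = n
      rw [if_pos]
      apply hu.dvd_of_dvd_mul_right
      rw [← hmn]
      exact orderOf_dvd_natCard x) (by
      intro x hx
      show (if orderOf x ∣ m then (n : ℂ) else 0) = 0
      rw [if_neg]
      intro hd
      apply hx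
      refine ⟨1, IsConj.refl 1, x, (mul_one x).symm, Commute.one_right x, ?_, ?_⟩
      · exact Nat.Coprime.coprime_dvd_left hd hcop
      · simp)
  have := finite_irr (G := G)
  let _ := Fintype.ofFinite (IrrCharacter G)
  rw [finsum_eq_sum_of_fintype] at e
  have h1 : classInner (fun x : G => if orderOf x ∣ m then (n : ℂ) else 0) (1 : G → ℂ)
      = c ⟨1, isIrr_one⟩ := by
    rw [e]
    exact classInner_sum_smul_irr c ⟨1, isIrr_one⟩
  rw [classInner_def] at h1
  have h2 : ∑ g : G, (if orderOf g ∣ m then (n : ℂ) else 0) * conj ((1 : G → ℂ) g)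
      = n * (Nat.card {x : G // orderOf x ∣ m} : ℂ) := by
    have h3 : ∀ g : G, (if orderOf g ∣ m then (n : ℂ) else 0) * conj ((1 : G → ℂ) g)
      = n * (if orderOf g ∣ m then (1 : ℂ) else 0) := by
      intro g
      simp
    rw [Finset.sum_congr rfl fun g _ => h3 g, ← Finset.mul_sum]
    congr 1
    rw [← Finset.sum_filter, Finset.sum_const, nsmul_eq_mul, mul_one, Nat.card_eq_fintype_card,
      Fintype.card_subtype]
  rw [h2, hmn] at h1
  have h3 := hc ⟨1, isIrr_one⟩
  rw [← h1] at h3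
  have h4 : ((m * n : ℕ) : ℂ)⁻¹ * (n * (Nat.card {x : G // orderOf x ∣ m} : ℂ))
      = (Nat.card {x : G // orderOf x ∣ m} : ℂ) / m := by
    have a1 : (m : ℂ) ≠ 0 := Nat.cast_ne_zero.2 hm0
    have a2 : (n : ℂ) ≠ 0 := Nat.cast_ne_zero.2 hn0
    push_cast
    field_simp
  rw [h4] at h3
  have h5 : IsIntegral ℤ ((Nat.card {x : G // orderOf x ∣ m} : ℂ) / m) := h3
  have h6 : (m : ℤ) ∣ ((Nat.card {x : G // orderOf x ∣ m} : ℕ) : ℤ) := by
    refine dvd_of_integral hm0 h5 ?_
    have a1 : (m : ℂ) ≠ 0 := Nat.cast_ne_zero.2 hm0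
    push_cast
    field_simp
  exact_mod_cast h6

theorem card_class [Finite G] {x : G} {c j k : ℕ} (hN : Nat.card G = 1920 * j)
    (hc : Nat.card (Subgroup.centralizer ({x} : Set G)) = c) (hk : c * k = 1920) :
    Nat.card {y : G // IsConj x y} = k * j := by
  have h1 := Cfsg.Agent.Characters.CentralCharacter.index_centralizer_eq_card (G := G) x
  have h2 := Subgroup.card_mul_index (Subgroup.centralizer ({x} : Set G))
  rw [h1, hc, hN, ← hk, mul_assoc] at h2
  have hc0 : 0 < c := by
    rw [← hc]; exact Nat.card_pos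
  exact Nat.eq_of_mul_eq_mul_left hc0 h2

variable {t : G} {D : ℕ → G}

theorem cards (h : Coded t D) :
    Nat.card (Subgroup.centralizer ({D 1} : Set G)) = 96 ∧
    Nat.card (Subgroup.centralizer ({D 496} : Set G)) = 24 ∧
    Nat.card (Subgroup.centralizer ({D 97} : Set G)) = 8 ∧
    Nat.card (Subgroup.centralizer ({D 492} : Set G)) = 12 ∧
    Nat.card (Subgroup.centralizer ({D 528} : Set G)) = 10 ∧
    Nat.card (Subgroup.centralizer ({D 1456} : Set G)) = 10 := by
  refine ⟨?_, ?_, ?_, ?_, ?_, ?_⟩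
  · rw [h.card_centralizer (by norm_num) h.pow4, card_cm4]
  · rw [h.card_centralizer (by norm_num) h.pow6, card_cm6]
  · rw [h.card_centralizer (by norm_num) h.pow8, card_cm8]
  · rw [h.card_centralizer (by norm_num) h.pow12, card_cm12]
  · rw [h.card_centralizer (by norm_num) h.pow10a, card_cm10a]
  · rw [h.card_centralizer (by norm_num) h.pow10b, card_cm10b]

theorem mod_eq [Finite G] (h : Coded t D) (hall : ∀ g : G, orderOf g = 2 → IsConj t g) {j : ℕ}
    (hN : Nat.card G = 1920 * j) : j % 128 = 51 := by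
  classical
  let _ := Fintype.ofFinite G
  have hj : 0 < j := by
    have : 0 < Nat.card G := Nat.card_pos
    omega
  set a := (Nat.card G).factorization 2 with ha
  have hmn : Nat.card G = 2 ^ a * (Nat.card G / 2 ^ a) := (Nat.ordProj_mul_ordCompl_eq_self _ 2).symm
  have hcop : Nat.Coprime (2 ^ a) (Nat.card G / 2 ^ a) :=
    Nat.Coprime.pow_left a (Nat.coprime_ordCompl Nat.prime_two Nat.card_pos.ne')
  have hdvd := two_part_dvd (2 ^ a) _ hmn hcop
  have h128 : 128 ∣ 2 ^ a := by
    have h1 : 2 ^ 7 ∣ Nat.card G := ⟨15 * j, by rw [hN]; ring⟩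
    have h2 : 7 ≤ a := (Nat.Prime.pow_dvd_iff_le_factorization Nat.prime_two Nat.card_pos.ne').1 h1
    exact pow_dvd_pow 2 h2
  have horder : ∀ x : G, orderOf x ∣ 2 ^ a ↔
      (orderOf x = 1 ∨ orderOf x = 2 ∨ orderOf x = 4 ∨ orderOf x = 8) := by
    intro x
    constructor
    · intro hx
      obtain ⟨k, -, hk⟩ := (Nat.dvd_prime_pow Nat.prime_two).1 hx
      rcases Nat.lt_or_ge k 4 with hk4 | hk4
      · interval_cases k <;> simp [hk]
      · exfalso
        apply no_sixteen h hall (g := x ^ (2 ^ (k - 4)))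
        rw [orderOf_pow' x (by positivity), hk, Nat.gcd_eq_right (pow_dvd_pow 2 (by omega)),
          Nat.pow_div (by omega) (by norm_num)]
        rw [show k - (k - 4) = 4 by omega]
    · rintro (hx | hx | hx | hx) <;> rw [hx]
      · exact one_dvd _
      · exact dvd_trans (by norm_num) h128
      · exact dvd_trans (by norm_num) h128
      · exact dvd_trans (by norm_num) h128
  have hcount : Nat.card {x : G // orderOf x ∣ 2 ^ a} = 1 + 261 * j := by
    obtain ⟨c4, -, c8, -, -, -⟩ := cards h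
    have k2 := card_class hN h.card_centralizer_t (k := 1) (by norm_num)
    have k4 := card_class hN c4 (k := 20) (by norm_num)
    have k8 := card_class hN c8 (k := 240) (by norm_num)
    have i2 : ∀ x, IsConj t x ↔ orderOf x = 2 := fun x =>
      ⟨fun hx => by rw [← orderOf_conj' hx, h.t_order], hall x⟩
    have i4 : ∀ x, IsConj (D 1) x ↔ orderOf x = 4 := fun x =>
      ⟨fun hx => by rw [← orderOf_conj' hx, h.order4], conj_four h hall⟩
    have i8 : ∀ x, IsConj (D 97) x ↔ orderOf x = 8 := fun x =>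
      ⟨fun hx => by rw [← orderOf_conj' hx, h.order8], conj_eight h hall⟩
    have i1 : Nat.card {x : G // orderOf x = 1} = 1 := by
      rw [Nat.card_eq_one_iff_unique]
      refine ⟨⟨?_⟩, ⟨⟨1, orderOf_one⟩⟩⟩
      rintro ⟨x, hx⟩ ⟨y, hy⟩
      rw [orderOf_eq_one_iff] at hx hy
      subst hx
      subst hy
      rfl
    have f2 : Nat.card {x : G // orderOf x = 2} = 1 * j := by
      rw [← k2]
      exact Nat.card_congr (Equiv.subtypeEquivRight fun x => (i2 x).symm)
    have f4 : Nat.card {x : G // orderOf x = 4} = 20 * j := by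
      rw [← k4]
      exact Nat.card_congr (Equiv.subtypeEquivRight fun x => (i4 x).symm)
    have f8 : Nat.card {x : G // orderOf x = 8} = 240 * j := by
      rw [← k8]
      exact Nat.card_congr (Equiv.subtypeEquivRight fun x => (i8 x).symm)
    rw [Nat.card_eq_fintype_card, Fintype.card_subtype] at i1 f2 f4 f8
    rw [Nat.card_eq_fintype_card, Fintype.card_subtype, Finset.card_filter]
    rw [Finset.card_filter] at i1 f2 f4 f8
    have hpt : ∀ x : G, (if orderOf x ∣ 2 ^ a then 1 else 0 : ℕ) = (if orderOf x = 1 then 1 else 0)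
        + (if orderOf x = 2 then 1 else 0) + (if orderOf x = 4 then 1 else 0)
        + (if orderOf x = 8 then 1 else 0) := by
      intro x
      have := horder x
      by_cases hx : orderOf x ∣ 2 ^ a
      · rw [if_pos hx]
        rcases this.1 hx with h1 | h1 | h1 | h1 <;> rw [h1] <;> norm_num
      · rw [if_neg hx]
        rw [this] at hx
        push Not at hx
        rw [if_neg hx.1, if_neg hx.2.1, if_neg hx.2.2.1, if_neg hx.2.2.2]
    rw [Finset.sum_congr rfl fun x _ => hpt x, Finset.sum_add_distrib, Finset.sum_add_distrib,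
      Finset.sum_add_distrib, i1, f2, f4, f8]
    ring
  rw [hcount] at hdvd
  have h1 : 128 ∣ 1 + 261 * j := dvd_trans h128 hdvd
  omega

end Cfsg.Agent.J3Type.CharTwo
end

-- part: J3Type/CharOrder
section
/-!
# The order of a group with one class of involutions and coded involution centralizer
-/

set_option autoImplicit false

namespace Cfsg.Agent.J3Type.CharOrder

open scoped ComplexConjugate
open Cfsg.Agent.J3Type.CodeTab Cfsg.Agent.J3Type.CodeFacts Cfsg.Agent.J3Type.CodeGroup
open Cfsg.Agent.J3Type.CharTools Cfsg.Agent.Characters.Core Cfsg.Agent.J3Type.CodeAvg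
open Cfsg.Agent.J3Type.CharRow Cfsg.Agent.J3Type.CharTwo Cfsg.Agent.J3Type.CharComb

universe u

variable {G : Type u} [Group G] {t : G} {D : ℕ → G}

/-- representatives of the classes used -/
def y (t : G) (D : ℕ → G) : Fin 8 → G := ![1, t, D 1, D 496, D 97, D 492, D 528, D 1456]

/-- their orders -/
def ord : Fin 8 → ℕ := ![1, 2, 4, 6, 8, 12, 10, 10]

/-- the orders of their centralizers -/
def cc (j : ℕ) : Fin 8 → ℕ := ![1920 * j, 1920, 96, 24, 8, 12, 10, 10]

theorem ord_y (h : Coded t D) : ∀ a, orderOf (y t D a) = ord a := by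
  intro a
  fin_cases a
  · exact orderOf_one
  · exact h.t_order
  · exact h.order4
  · exact h.order6
  · exact h.order8
  · exact h.order12
  · exact h.order10a
  · exact h.order10b

theorem cc_y [Finite G] (h : Coded t D) {j : ℕ} (hN : Nat.card G = 1920 * j) :
    ∀ a, Nat.card (Subgroup.centralizer ({y t D a} : Set G)) = cc j a := by
  obtain ⟨c4, c6, c8, c12, ca, cb⟩ := cards h
  intro a
  fin_cases a
  · show Nat.card (Subgroup.centralizer ({1} : Set G)) = 1920 * j
    have : Subgroup.centralizer ({1} : Set G) = ⊤ := by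
      rw [eq_top_iff]
      intro g _
      rw [Subgroup.mem_centralizer_singleton_iff]
      simp
    rw [this, ← hN]
    exact Nat.card_congr Subgroup.topEquiv.toEquiv
  · exact h.card_centralizer_t
  · exact c4
  · exact c6
  · exact c8
  · exact c12
  · exact ca
  · exact cb

theorem ord_eq : ∀ a b : Fin 8, a ≠ b → ord a = ord b → (a = 6 ∧ b = 7) ∨ (a = 7 ∧ b = 6) := by
  decide

theorem y_not_conj (h : Coded t D) (a b : Fin 8) (hab : a ≠ b) : ¬ IsConj (y t D a) (y t D b) := by
  intro hc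
  have h1 := orderOf_conj' hc
  rw [ord_y h, ord_y h] at h1
  rcases ord_eq a b hab h1 with ⟨rfl, rfl⟩ | ⟨rfl, rfl⟩
  · exact h.not_conj hc
  · exact h.not_conj hc.symm

theorem y_real (h : Coded t D) (hall : ∀ g : G, orderOf g = 2 → IsConj t g) (a : Fin 8) :
    IsConj (y t D a)⁻¹ (y t D a) := by
  have h10 : D 528 ^ 10 = 1 := by
    have := pow_orderOf_eq_one (D 528)
    rw [h.order10a] at this
    exact this
  fin_cases a
  · show IsConj (1 : G)⁻¹ 1
    rw [inv_one]
  · show IsConj t⁻¹ t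
    rw [inv_eq_of_mul_eq_one_left h.sq]
  · exact (conj_four h hall ((orderOf_inv (D 1)).trans h.order4)).symm
  · exact (conj_six h hall ((orderOf_inv (D 496)).trans h.order6)).symm
  · exact (conj_eight h hall ((orderOf_inv (D 97)).trans h.order8)).symm
  · exact (conj_twelve h hall ((orderOf_inv (D 492)).trans h.order12)).symm
  · show IsConj (D 528)⁻¹ (D 528)
    have h1 : (D 528)⁻¹ = D 528 ^ 9 := by
      apply inv_eq_of_mul_eq_one_left
      rw [← pow_succ]
      exact h10
    rw [h1]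
    exact (conj9 h).symm
  · show IsConj (D 1456)⁻¹ (D 1456)
    have h1 : (D 1456)⁻¹ = D 528 ^ 7 := by
      rw [← h.pow10ab]
      apply inv_eq_of_mul_eq_one_left
      rw [← pow_add]
      exact h10
    rw [h1, ← h.pow10ab]
    exact (conj7 h).symm

theorem conj_val [Finite G] (h : Coded t D) (hall : ∀ g : G, orderOf g = 2 → IsConj t g) {χ : G → ℂ}
    (hχ : IsIrrCharacter G χ) (a : Fin 8) : conj (χ (y t D a)) = χ (y t D a) := by
  rw [← isCharacter_apply_inv (isIrr_isCharacter hχ)]
  exact class_eq (isIrr_isCharacter hχ) (y_real h hall a)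

/-- column orthogonality -/
theorem orth [Finite G] [Fintype (IrrCharacter G)] (h : Coded t D)
    (hall : ∀ g : G, orderOf g = 2 → IsConj t g) {j : ℕ} (hN : Nat.card G = 1920 * j) (a b : Fin 8) :
    ∑ χ : IrrCharacter G, (χ : G → ℂ) (y t D a) * (χ : G → ℂ) (y t D b)
      = if a = b then (cc j a : ℂ) else 0 := by
  obtain ⟨h1, h2⟩ := Cfsg.Agent.S0145.result (y t D a) (y t D b)
  rw [finsum_eq_sum_of_fintype] at h1 h2
  have h3 : ∑ χ : IrrCharacter G, (χ : G → ℂ) (y t D a) * conj ((χ : G → ℂ) (y t D b))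
      = ∑ χ : IrrCharacter G, (χ : G → ℂ) (y t D a) * (χ : G → ℂ) (y t D b) :=
    Finset.sum_congr rfl fun χ _ => by rw [conj_val h hall χ.2 b]
  rw [h3] at h1 h2
  by_cases hab : a = b
  · subst hab
    rw [if_pos rfl, h1 (IsConj.refl _), cc_y h hN]
  · rw [if_neg hab, h2 (y_not_conj h a b hab)]

/-- number of pairs -/
def np : Fin 8 → ℕ := ![0, 130, 28, 12, 8, 12, 10, 10]

theorem pairs [Finite G] (h : Coded t D) (hall : ∀ g : G, orderOf g = 2 → IsConj t g) (a : Fin 8)
    (ha : a ≠ 0) :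
    Nat.card {p : G × G // IsConj t p.1 ∧ IsConj t p.2 ∧ p.1 * p.2 = y t D a} = np a := by
  fin_cases a
  · exact absurd rfl ha
  · show Nat.card {p : G × G // IsConj t p.1 ∧ IsConj t p.2 ∧ p.1 * p.2 = t} = 130
    have h1 := h.card_pairs hall (x := 16) (m := 1) (by norm_num) (by rw [pow_one, h.t_eq])
    rw [h.t_eq, card_ip2] at h1
    exact h1
  · exact (h.card_pairs hall (by norm_num) h.pow4).trans card_ip4
  · exact (h.card_pairs hall (by norm_num) h.pow6).trans card_ip6
  · exact (h.card_pairs hall (by norm_num) h.pow8).trans card_ip8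
  · exact (h.card_pairs hall (by norm_num) h.pow12).trans card_ip12
  · exact (h.card_pairs hall (by norm_num) h.pow10a).trans card_ip10a
  · exact (h.card_pairs hall (by norm_num) h.pow10b).trans card_ip10b

theorem class_sum [Finite G] [Fintype (IrrCharacter G)] (h : Coded t D)
    (hall : ∀ g : G, orderOf g = 2 → IsConj t g) {j : ℕ} (hN : Nat.card G = 1920 * j) (a : Fin 8)
    (ha : a ≠ 0) :
    ∑ χ : IrrCharacter G, (χ : G → ℂ) t ^ 2 * (χ : G → ℂ) (y t D a) / (χ : G → ℂ) 1
      = 1920 * (np a : ℂ) / j := by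
  have h1 := Cfsg.Agent.S0840.result t t (y t D a)
  rw [finsum_eq_sum_of_fintype, pairs h hall a ha,
    card_class hN h.card_centralizer_t (k := 1) (by norm_num), hN] at h1
  have h3 : ∑ χ : IrrCharacter G, (χ : G → ℂ) t * (χ : G → ℂ) t * conj ((χ : G → ℂ) (y t D a)) /
      (χ : G → ℂ) 1 = ∑ χ : IrrCharacter G, (χ : G → ℂ) t ^ 2 * (χ : G → ℂ) (y t D a) / (χ : G → ℂ) 1 :=
    Finset.sum_congr rfl fun χ _ => by rw [conj_val h hall χ.2 a, sq]
  rw [h3] at h1
  have hj : (j : ℂ) ≠ 0 := by
    have : 0 < Nat.card G := Nat.card_pos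
    have : j ≠ 0 := by omega
    exact Nat.cast_ne_zero.2 this
  push_cast at h1
  field_simp at h1 ⊢
  linear_combination (-1 : ℂ) * h1

/-- the change of columns -/
def KK : Fin 8 → Fin 8 → ℂ := ![![1, 0, 0, 0, 0, 0, 0, 0], ![0, 1, 0, 0, 0, 0, 0, 0],
  ![0, 0, 1, 0, 0, 0, 0, 0], ![0, 0, 0, 1, 0, 0, 0, 0], ![0, 0, 0, 0, 1, 0, 0, 0],
  ![0, 0, 0, 0, 0, 1, 0, 0], ![0, 0, 0, 0, 0, 0, 1, 1], ![0, 0, 0, 0, 0, 0, 1, -1]]

theorem card_of_coded [Finite G] (h : Coded t D) (hall : ∀ g : G, orderOf g = 2 → IsConj t g) :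
    Nat.card G = 50232960 := by
  classical
  obtain ⟨j, hN⟩ : ∃ j, Nat.card G = 1920 * j := by
    refine ⟨(Subgroup.centralizer ({t} : Set G)).index, ?_⟩
    rw [← h.card_centralizer_t]
    exact (Subgroup.card_mul_index _).symm
  have hmod := mod_eq h hall hN
  have := finite_irr (G := G)
  let _ := Fintype.ofFinite (IrrCharacter G)
  obtain ⟨ζ, hζ, hs⟩ := exists_sqrt_five
  choose V hV using fun χ : IrrCharacter G => exists_row h hall hζ hs χ.2
  set s := ζ + ζ ^ 4 - ζ ^ 2 - ζ ^ 3 with hsd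
  have hs0 : s ≠ 0 := by
    intro h0
    rw [h0] at hs
    norm_num at hs
  have hj0 : (j : ℂ) ≠ 0 := Nat.cast_ne_zero.2 (by omega)
  -- the columns in terms of the class representatives
  let u : Fin 8 → ℂ := ![1, 1, 1, 1, 1, 1, 1, s]
  have hu0 : ∀ a, u a ≠ 0 := by
    intro a
    fin_cases a
    · exact one_ne_zero
    · exact one_ne_zero
    · exact one_ne_zero
    · exact one_ne_zero
    · exact one_ne_zero
    · exact one_ne_zero
    · exact one_ne_zero
    · exact hs0
  have hcol : ∀ (a : Fin 8) (χ : IrrCharacter G), ((V χ a : ℤ) : ℂ) * u a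
      = ∑ a', KK a a' * (χ : G → ℂ) (y t D a') := by
    intro a χ
    have r := hV χ
    rw [Fin.sum_univ_eight]
    fin_cases a
    · have := r.e0
      simp [KK, u, y, this]
    · have := r.e1
      simp [KK, u, y, this]
    · have := r.e2
      simp [KK, u, y, this]
    · have := r.e3
      simp [KK, u, y, this]
    · have := r.e4
      simp [KK, u, y, this]
    · have := r.e5
      simp [KK, u, y, this]
    · have := r.e6
      simp [KK, u, y, ← this]
    · have := r.e7
      simp [KK, u, y, ← this]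
      ring
  have hprod : ∀ a b : Fin 8, ((∑ χ : IrrCharacter G, V χ a * V χ b : ℤ) : ℂ) * (u a * u b)
      = ∑ a', KK a a' * KK b a' * (cc j a' : ℂ) := by
    intro a b
    push_cast
    rw [Finset.sum_mul]
    have h1 : ∀ χ : IrrCharacter G, ((V χ a : ℤ) : ℂ) * ((V χ b : ℤ) : ℂ) * (u a * u b)
        = ∑ a', ∑ b', KK a a' * KK b b' * ((χ : G → ℂ) (y t D a') * (χ : G → ℂ) (y t D b')) := by
      intro χ
      have : ((V χ a : ℤ) : ℂ) * ((V χ b : ℤ) : ℂ) * (u a * u b)
        = (((V χ a : ℤ) : ℂ) * u a) * (((V χ b : ℤ) : ℂ) * u b) := by ring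
      rw [this, hcol, hcol, Finset.sum_mul_sum]
      refine Finset.sum_congr rfl fun a' _ => Finset.sum_congr rfl fun b' _ => ?_
      ring
    rw [Finset.sum_congr rfl fun χ _ => h1 χ, Finset.sum_comm]
    refine Finset.sum_congr rfl fun a' _ => ?_
    rw [Finset.sum_comm]
    have h2 : ∀ b', ∑ χ : IrrCharacter G, KK a a' * KK b b' *
        ((χ : G → ℂ) (y t D a') * (χ : G → ℂ) (y t D b'))
        = if a' = b' then KK a a' * KK b b' * (cc j a' : ℂ) else 0 := by
      intro b'
      rw [← Finset.mul_sum, orth h hall hN a' b']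
      split_ifs <;> ring
    rw [Finset.sum_congr rfl fun b' _ => h2 b']
    simp
  have horth : ∀ a b : Fin 8, ∑ χ : IrrCharacter G, V χ a * V χ b = if a = b then dd j a else 0 := by
    intro a b
    have h1 := hprod a b
    rw [Fin.sum_univ_eight] at h1
    by_cases hab : a = b
    · subst hab
      rw [if_pos rfl]
      have h2 : ((∑ χ : IrrCharacter G, V χ a * V χ a : ℤ) : ℂ) = ((dd j a : ℤ) : ℂ) := by
        have h3 : u a * u a ≠ 0 := mul_ne_zero (hu0 a) (hu0 a)
        apply mul_right_cancel₀ h3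
        rw [h1]
        clear h1 h3 hprod hcol
        fin_cases a
        · simp [KK, u, cc, dd]
        · simp [KK, u, cc, dd]
        · simp [KK, u, cc, dd]
        · simp [KK, u, cc, dd]
        · simp [KK, u, cc, dd]
        · simp [KK, u, cc, dd]
        · simp [KK, u, cc, dd]; norm_num
        · simp [KK, u, cc, dd]
          linear_combination (-4 : ℂ) * hs
      exact_mod_cast h2
    · rw [if_neg hab]
      have h2 : ((∑ χ : IrrCharacter G, V χ a * V χ b : ℤ) : ℂ) = 0 := by
        have h3 : u a * u b ≠ 0 := mul_ne_zero (hu0 a) (hu0 b)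
        apply mul_right_cancel₀ h3
        rw [h1, zero_mul]
        clear h1 h3 hprod hcol
        revert hab
        fin_cases a <;> fin_cases b <;> simp [KK, cc]
      exact_mod_cast h2
  -- the trivial character
  let e : IrrCharacter G := ⟨1, isIrr_one⟩
  have he : ∀ a, V e a = ee a := by
    intro a
    have r := hV e
    have hone : ∀ g : G, (e : G → ℂ) g = 1 := fun g => rfl
    fin_cases a
    · have := r.e0; rw [hone] at this; exact_mod_cast this.symm
    · have := r.e1; rw [hone] at this; exact_mod_cast this.symm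
    · have := r.e2; rw [hone] at this; exact_mod_cast this.symm
    · have := r.e3; rw [hone] at this; exact_mod_cast this.symm
    · have := r.e4; rw [hone] at this; exact_mod_cast this.symm
    · have := r.e5; rw [hone] at this; exact_mod_cast this.symm
    · have := r.e6
      rw [hone, hone] at this
      have h2 : ((V e 6 : ℤ) : ℂ) = ((2 : ℤ) : ℂ) := by rw [← this]; norm_num
      exact_mod_cast h2
    · have := r.e7
      rw [hone, hone, sub_self] at this
      have h2 := (mul_eq_zero.1 this.symm).resolve_right hs0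
      exact_mod_cast h2
  have hcl : ∑ χ : IrrCharacter G, ((3 * V χ 1 - 5 * V χ 2 - 30 * V χ 4 - 40 * V χ 5 - 24 * V χ 6 : ℤ) : ℚ)
      / 120 * ((V χ 1 : ℤ) : ℚ) ^ 2 / ((V χ 0 : ℤ) : ℚ) = -15200 / (j : ℚ) := by
    have p1 := class_sum h hall hN 1 (by decide)
    have p2 := class_sum h hall hN 2 (by decide)
    have p4 := class_sum h hall hN 4 (by decide)
    have p5 := class_sum h hall hN 5 (by decide)
    have p6 := class_sum h hall hN 6 (by decide)
    have p7 := class_sum h hall hN 7 (by decide)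
    have n1 : ((np 1 : ℕ) : ℂ) = 130 := by rw [show np 1 = 130 from rfl]; norm_num
    have n2 : ((np 2 : ℕ) : ℂ) = 28 := by rw [show np 2 = 28 from rfl]; norm_num
    have n4 : ((np 4 : ℕ) : ℂ) = 8 := by rw [show np 4 = 8 from rfl]; norm_num
    have n5 : ((np 5 : ℕ) : ℂ) = 12 := by rw [show np 5 = 12 from rfl]; norm_num
    have n6 : ((np 6 : ℕ) : ℂ) = 10 := by rw [show np 6 = 10 from rfl]; norm_num
    have n7 : ((np 7 : ℕ) : ℂ) = 10 := by rw [show np 7 = 10 from rfl]; norm_num
    rw [n1] at p1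
    rw [n2] at p2
    rw [n4] at p4
    rw [n5] at p5
    rw [n6] at p6
    rw [n7] at p7
    have h1 : ∑ χ : IrrCharacter G, ((3 * V χ 1 - 5 * V χ 2 - 30 * V χ 4 - 40 * V χ 5 - 24 * V χ 6 : ℤ) : ℂ)
      / 120 * ((V χ 1 : ℤ) : ℂ) ^ 2 / ((V χ 0 : ℤ) : ℂ) = -15200 / (j : ℂ) := by
      have h2 : ∀ χ : IrrCharacter G,
          ((3 * V χ 1 - 5 * V χ 2 - 30 * V χ 4 - 40 * V χ 5 - 24 * V χ 6 : ℤ) : ℂ)
          / 120 * ((V χ 1 : ℤ) : ℂ) ^ 2 / ((V χ 0 : ℤ) : ℂ)
          = (1 / 40 : ℂ) * ((χ : G → ℂ) t ^ 2 * (χ : G → ℂ) (y t D 1) / (χ : G → ℂ) 1)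
          + ((-1 / 24 : ℂ) * ((χ : G → ℂ) t ^ 2 * (χ : G → ℂ) (y t D 2) / (χ : G → ℂ) 1)
          + ((-1 / 4 : ℂ) * ((χ : G → ℂ) t ^ 2 * (χ : G → ℂ) (y t D 4) / (χ : G → ℂ) 1)
          + ((-1 / 3 : ℂ) * ((χ : G → ℂ) t ^ 2 * (χ : G → ℂ) (y t D 5) / (χ : G → ℂ) 1)
          + ((-1 / 5 : ℂ) * ((χ : G → ℂ) t ^ 2 * (χ : G → ℂ) (y t D 6) / (χ : G → ℂ) 1)
          + (-1 / 5 : ℂ) * ((χ : G → ℂ) t ^ 2 * (χ : G → ℂ) (y t D 7) / (χ : G → ℂ) 1))))) := by
        intro χ
        have r := hV χ
        have y1 : (χ : G → ℂ) (y t D 1) = V χ 1 := r.e1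
        have y2 : (χ : G → ℂ) (y t D 2) = V χ 2 := r.e2
        have y4 : (χ : G → ℂ) (y t D 4) = V χ 4 := r.e4
        have y5 : (χ : G → ℂ) (y t D 5) = V χ 5 := r.e5
        have y6 : (χ : G → ℂ) (y t D 6) + (χ : G → ℂ) (y t D 7) = V χ 6 := r.e6
        rw [y1, y2, y4, y5, r.e0, r.e1]
        push_cast
        linear_combination (-(1 / 5 : ℂ) * ((V χ 1 : ℤ) : ℂ) ^ 2 / ((V χ 0 : ℤ) : ℂ)) * (-y6)
      rw [Finset.sum_congr rfl fun χ _ => h2 χ, Finset.sum_add_distrib, Finset.sum_add_distrib,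
        Finset.sum_add_distrib, Finset.sum_add_distrib, Finset.sum_add_distrib, ← Finset.mul_sum,
        ← Finset.mul_sum, ← Finset.mul_sum, ← Finset.mul_sum, ← Finset.mul_sum, ← Finset.mul_sum,
        p1, p2, p4, p5, p6, p7]
      field_simp
      norm_num
    have h3 : ((∑ χ : IrrCharacter G, ((3 * V χ 1 - 5 * V χ 2 - 30 * V χ 4 - 40 * V χ 5 - 24 * V χ 6 : ℤ) : ℚ)
      / 120 * ((V χ 1 : ℤ) : ℚ) ^ 2 / ((V χ 0 : ℤ) : ℚ) : ℚ) : ℂ) = ((-15200 / (j : ℚ) : ℚ) : ℂ) := by
      push_cast
      push_cast at h1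
      exact h1
    exact_mod_cast h3
  have hC : Cols j (fun a χ => V χ a) e :=
    { hj := hmod
      horth := horth
      he := he
      hpos := fun χ => (hV χ).hpos
      hdvd := fun χ => by
        have := (hV χ).hdvd
        rw [hN] at this
        push_cast at this
        exact this
      c1 := fun χ => (hV χ).c1
      c2 := fun χ => (hV χ).c2
      c3 := fun χ => (hV χ).c3
      c4 := fun χ => (hV χ).c4
      c5 := fun χ => (hV χ).c5
      c6 := fun χ => (hV χ).c6
      c7 := fun χ => (hV χ).c7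
      c8 := fun χ => (hV χ).c8
      hcl := hcl }
  rw [hN, hC.order]

end Cfsg.Agent.J3Type.CharOrder
end

-- part: J3Type/CodeExists
section
/-!
# Existence of the coding

A group with a signed permutation model and a complement `A₅` acting without signs is coded by the
numbers below 1920.
-/

set_option autoImplicit false

namespace Cfsg.Agent.J3Type.CodeExists

open Cfsg.Agent.J3Type.CodeTab Cfsg.Agent.J3Type.CodeFacts Cfsg.Agent.J3Type.CodeGroup
open Cfsg.Agent.J2Type.Model Cfsg.Agent.J2Type.CStruct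

/-! ### The permutations -/

theorem mod60 (p : ℕ) : p % 60 < 60 := Nat.mod_lt _ (by norm_num)

/-- the `p`-th even permutation as a function -/
def fP (p : ℕ) (k : Fin 5) : Fin 5 := ⟨pv (p % 60) k, pv_lt (mod60 p) k.2⟩

theorem fP_inv (p : ℕ) (k : Fin 5) : fP (pinv (p % 60)) (fP p k) = k := by
  apply Fin.ext
  show pv (pinv (p % 60) % 60) (pv (p % 60) k) = k
  rw [Nat.mod_eq_of_lt (pinv_lt (mod60 p))]
  exact pinv_pv (mod60 p) k.2

theorem fP_inv' (p : ℕ) (k : Fin 5) : fP p (fP (pinv (p % 60)) k) = k := by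
  apply Fin.ext
  show pv (p % 60) (pv (pinv (p % 60) % 60) k) = k
  rw [Nat.mod_eq_of_lt (pinv_lt (mod60 p))]
  exact pv_pinv (mod60 p) k.2

/-- the `p`-th even permutation -/
def P (p : ℕ) : Equiv.Perm (Fin 5) := ⟨fP p, fP (pinv (p % 60)), fP_inv p, fP_inv' p⟩

theorem P_apply (p : ℕ) (k : Fin 5) : P p k = fP p k := rfl

theorem P_mod (p : ℕ) : P (p % 60) = P p := by
  apply Equiv.ext
  intro k
  apply Fin.ext
  show pv (p % 60 % 60) k = pv (p % 60) k
  rw [Nat.mod_mod]

theorem sign_lt : ∀ p < 60, Equiv.Perm.sign (P p) = 1 := by decide +kernel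

theorem sign_P (p : ℕ) : Equiv.Perm.sign (P p) = 1 := by
  rw [← P_mod]
  exact sign_lt _ (mod60 p)

/-- the `p`-th even permutation, in the alternating group -/
def PA (p : ℕ) : alternatingGroup (Fin 5) := ⟨P p, Equiv.Perm.mem_alternatingGroup.2 (sign_P p)⟩

theorem PA_mul {p q : ℕ} (hp : p < 60) (hq : q < 60) : PA p * PA q = PA (mulP p q) := by
  apply Subtype.ext
  apply Equiv.ext
  intro k
  apply Fin.ext
  show pv (p % 60) (pv (q % 60) k) = pv (mulP p q % 60) k
  rw [Nat.mod_eq_of_lt hp, Nat.mod_eq_of_lt hq, Nat.mod_eq_of_lt (mulP_lt hp hq)]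
  exact pv_mulP hp hq k.2

theorem PA_inj {p q : ℕ} (hp : p < 60) (hq : q < 60) (h : P p = P q) : p = q := by
  apply pv_inj hp hq
  intro k hk
  have h1 := congrArg (fun f : Equiv.Perm (Fin 5) => ((f ⟨k, hk⟩ : Fin 5) : ℕ)) h
  have h2 : pv (p % 60) k = pv (q % 60) k := h1
  rw [Nat.mod_eq_of_lt hp, Nat.mod_eq_of_lt hq] at h2
  exact h2

theorem mulP_zero : mulP 0 0 = 0 := by decide +kernel

theorem PA_zero : PA 0 = 1 := by
  have h := PA_mul (p := 0) (q := 0) (by norm_num) (by norm_num)
  rw [mulP_zero] at h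
  exact mul_eq_left.1 h

/-! ### The words -/

section words

variable {C : Type*} [Group C]

/-- the relations of the generators -/
structure Rel (z g1 g2 g3 g4 : C) : Prop where
  zz : z * z = 1
  zc : ∀ c, c * z = z * c
  s1 : g1 * g1 = z
  s2 : g2 * g2 = z
  s3 : g3 * g3 = z
  s4 : g4 * g4 = z
  r21 : g2 * g1 = z * (g1 * g2)
  r31 : g3 * g1 = z * (g1 * g3)
  r41 : g4 * g1 = z * (g1 * g4)
  r32 : g3 * g2 = z * (g2 * g3)
  r42 : g4 * g2 = z * (g2 * g4)
  r43 : g4 * g3 = z * (g3 * g4)

/-- the word with given exponents -/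
def EEb (z g1 g2 g3 g4 : C) (a b1 b2 b3 b4 : Bool) : C :=
  (cond a z 1) * ((cond b1 g1 1) * ((cond b2 g2 1) * ((cond b3 g3 1) * (cond b4 g4 1))))

/-- the word with given code -/
def EE (z g1 g2 g3 g4 : C) (x : ℕ) : C := EEb z g1 g2 g3 g4 (bt x 4) (bt x 0) (bt x 1) (bt x 2) (bt x 3)

variable {z g1 g2 g3 g4 : C}

theorem Rel.left {a b c : C} (x : C) (h : a * b = c) : a * (b * x) = c * x := by
  rw [← h, mul_assoc]

theorem EEb_mul (R : Rel z g1 g2 g3 g4) (a b1 b2 b3 b4 : Bool) :
    EEb z g1 g2 g3 g4 a b1 b2 b3 b4 * z = EEb z g1 g2 g3 g4 (!a) b1 b2 b3 b4 ∧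
    EEb z g1 g2 g3 g4 a b1 b2 b3 b4 * g1
      = EEb z g1 g2 g3 g4 (xor a (xor b1 (xor b2 (xor b3 b4)))) (!b1) b2 b3 b4 ∧
    EEb z g1 g2 g3 g4 a b1 b2 b3 b4 * g2
      = EEb z g1 g2 g3 g4 (xor a (xor b2 (xor b3 b4))) b1 (!b2) b3 b4 ∧
    EEb z g1 g2 g3 g4 a b1 b2 b3 b4 * g3
      = EEb z g1 g2 g3 g4 (xor a (xor b3 b4)) b1 b2 (!b3) b4 ∧
    EEb z g1 g2 g3 g4 a b1 b2 b3 b4 * g4
      = EEb z g1 g2 g3 g4 (xor a b4) b1 b2 b3 (!b4) := by
  have zz := R.zz
  have zz' : ∀ x, z * (z * x) = x := fun x => by rw [← mul_assoc, zz, one_mul]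
  have z1 := R.zc g1
  have z2 := R.zc g2
  have z3 := R.zc g3
  have z4 := R.zc g4
  have z1' : ∀ x, g1 * (z * x) = z * (g1 * x) := fun x => by rw [← mul_assoc, z1, mul_assoc]
  have z2' : ∀ x, g2 * (z * x) = z * (g2 * x) := fun x => by rw [← mul_assoc, z2, mul_assoc]
  have z3' : ∀ x, g3 * (z * x) = z * (g3 * x) := fun x => by rw [← mul_assoc, z3, mul_assoc]
  have z4' : ∀ x, g4 * (z * x) = z * (g4 * x) := fun x => by rw [← mul_assoc, z4, mul_assoc]
  have s1 := R.s1
  have s2 := R.s2
  have s3 := R.s3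
  have s4 := R.s4
  have s1' : ∀ x, g1 * (g1 * x) = z * x := fun x => by rw [← mul_assoc, s1]
  have s2' : ∀ x, g2 * (g2 * x) = z * x := fun x => by rw [← mul_assoc, s2]
  have s3' : ∀ x, g3 * (g3 * x) = z * x := fun x => by rw [← mul_assoc, s3]
  have s4' : ∀ x, g4 * (g4 * x) = z * x := fun x => by rw [← mul_assoc, s4]
  have r21 := R.r21
  have r31 := R.r31
  have r41 := R.r41
  have r32 := R.r32
  have r42 := R.r42
  have r43 := R.r43
  have r21' : ∀ x, g2 * (g1 * x) = z * (g1 * (g2 * x)) := fun x => by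
    rw [← mul_assoc, r21, mul_assoc, mul_assoc]
  have r31' : ∀ x, g3 * (g1 * x) = z * (g1 * (g3 * x)) := fun x => by
    rw [← mul_assoc, r31, mul_assoc, mul_assoc]
  have r41' : ∀ x, g4 * (g1 * x) = z * (g1 * (g4 * x)) := fun x => by
    rw [← mul_assoc, r41, mul_assoc, mul_assoc]
  have r32' : ∀ x, g3 * (g2 * x) = z * (g2 * (g3 * x)) := fun x => by
    rw [← mul_assoc, r32, mul_assoc, mul_assoc]
  have r42' : ∀ x, g4 * (g2 * x) = z * (g2 * (g4 * x)) := fun x => by
    rw [← mul_assoc, r42, mul_assoc, mul_assoc]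
  have r43' : ∀ x, g4 * (g3 * x) = z * (g3 * (g4 * x)) := fun x => by
    rw [← mul_assoc, r43, mul_assoc, mul_assoc]
  refine ⟨?_, ?_, ?_, ?_, ?_⟩ <;> cases a <;> cases b1 <;> cases b2 <;> cases b3 <;> cases b4 <;>
    simp only [EEb, cond_true, cond_false, Bool.xor_false, Bool.xor_true, Bool.not_true,
      Bool.not_false, Bool.false_xor, Bool.true_xor, one_mul, mul_one, mul_assoc, zz, zz', z1, z2,
      z3, z4, z1', z2', z3', z4', s1, s2, s3, s4, s1', s2', s3', s4', r21, r31, r41, r32, r42, r43,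
      r21', r31', r41', r32', r42', r43']

theorem bits : ∀ x < 32,
    (bt (emul x 16) 4 = !bt x 4 ∧ bt (emul x 16) 0 = bt x 0 ∧ bt (emul x 16) 1 = bt x 1 ∧
      bt (emul x 16) 2 = bt x 2 ∧ bt (emul x 16) 3 = bt x 3) ∧
    (bt (emul x 1) 4 = xor (bt x 4) (xor (bt x 0) (xor (bt x 1) (xor (bt x 2) (bt x 3)))) ∧
      bt (emul x 1) 0 = !bt x 0 ∧ bt (emul x 1) 1 = bt x 1 ∧
      bt (emul x 1) 2 = bt x 2 ∧ bt (emul x 1) 3 = bt x 3) ∧
    (bt (emul x 2) 4 = xor (bt x 4) (xor (bt x 1) (xor (bt x 2) (bt x 3))) ∧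
      bt (emul x 2) 0 = bt x 0 ∧ bt (emul x 2) 1 = !bt x 1 ∧
      bt (emul x 2) 2 = bt x 2 ∧ bt (emul x 2) 3 = bt x 3) ∧
    (bt (emul x 4) 4 = xor (bt x 4) (xor (bt x 2) (bt x 3)) ∧
      bt (emul x 4) 0 = bt x 0 ∧ bt (emul x 4) 1 = bt x 1 ∧
      bt (emul x 4) 2 = !bt x 2 ∧ bt (emul x 4) 3 = bt x 3) ∧
    (bt (emul x 8) 4 = xor (bt x 4) (bt x 3) ∧
      bt (emul x 8) 0 = bt x 0 ∧ bt (emul x 8) 1 = bt x 1 ∧
      bt (emul x 8) 2 = bt x 2 ∧ bt (emul x 8) 3 = !bt x 3) := by decide +kernel

theorem EE_gen (R : Rel z g1 g2 g3 g4) {x : ℕ} (hx : x < 32) :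
    EE z g1 g2 g3 g4 x * z = EE z g1 g2 g3 g4 (emul x 16) ∧
    EE z g1 g2 g3 g4 x * g1 = EE z g1 g2 g3 g4 (emul x 1) ∧
    EE z g1 g2 g3 g4 x * g2 = EE z g1 g2 g3 g4 (emul x 2) ∧
    EE z g1 g2 g3 g4 x * g3 = EE z g1 g2 g3 g4 (emul x 4) ∧
    EE z g1 g2 g3 g4 x * g4 = EE z g1 g2 g3 g4 (emul x 8) := by
  obtain ⟨h0, h1, h2, h3, h4⟩ := EEb_mul R (bt x 4) (bt x 0) (bt x 1) (bt x 2) (bt x 3)
  obtain ⟨⟨a0, a1, a2, a3, a4⟩, ⟨b0, b1, b2, b3, b4⟩, ⟨c0, c1, c2, c3, c4⟩, ⟨d0, d1, d2, d3, d4⟩,
    ⟨e0, e1, e2, e3, e4⟩⟩ := bits x hx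
  unfold EE
  rw [a0, a1, a2, a3, a4, b0, b1, b2, b3, b4, c0, c1, c2, c3, c4, d0, d1, d2, d3, d4,
    e0, e1, e2, e3, e4]
  exact ⟨h0, h1, h2, h3, h4⟩

theorem st_lt {g x : ℕ} (hg : g < 32) (hx : x < 32) (b : Bool) : st g x b < 32 := by
  cases b
  · exact hx
  · exact emul_lt hx hg

theorem EE_st {γ : C} {g : ℕ} (hγ : ∀ x < 32, EE z g1 g2 g3 g4 x * γ = EE z g1 g2 g3 g4 (emul x g))
    {x : ℕ} (hx : x < 32) (b : Bool) :
    EE z g1 g2 g3 g4 (st g x b) = EE z g1 g2 g3 g4 x * cond b γ 1 := by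
  cases b
  · exact (mul_one _).symm
  · exact (hγ x hx).symm

theorem EE_chain {γ γ1 γ2 γ3 γ4 : C} {c c1 c2 c3 c4 : ℕ} (hc : c < 32) (hc1 : c1 < 32) (hc2 : c2 < 32)
    (hc3 : c3 < 32)
    (h : ∀ x < 32, EE z g1 g2 g3 g4 x * γ = EE z g1 g2 g3 g4 (emul x c))
    (h1 : ∀ x < 32, EE z g1 g2 g3 g4 x * γ1 = EE z g1 g2 g3 g4 (emul x c1))
    (h2 : ∀ x < 32, EE z g1 g2 g3 g4 x * γ2 = EE z g1 g2 g3 g4 (emul x c2))
    (h3 : ∀ x < 32, EE z g1 g2 g3 g4 x * γ3 = EE z g1 g2 g3 g4 (emul x c3))
    (h4 : ∀ x < 32, EE z g1 g2 g3 g4 x * γ4 = EE z g1 g2 g3 g4 (emul x c4))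
    {x : ℕ} (hx : x < 32) (w : ℕ) :
    EE z g1 g2 g3 g4 x * EE γ γ1 γ2 γ3 γ4 w = EE z g1 g2 g3 g4 (chain c c1 c2 c3 c4 x w) := by
  have k0 := st_lt hc hx (bt w 4)
  have k1 := st_lt hc1 k0 (bt w 0)
  have k2 := st_lt hc2 k1 (bt w 1)
  have k3 := st_lt hc3 k2 (bt w 2)
  unfold chain
  rw [EE_st h4 k3, EE_st h3 k2, EE_st h2 k1, EE_st h1 k0, EE_st h hx]
  show _ * EEb γ γ1 γ2 γ3 γ4 _ _ _ _ _ = _
  unfold EEb
  simp only [mul_assoc]

theorem EE_mul (R : Rel z g1 g2 g3 g4) {x w : ℕ} (hx : x < 32) (hw : w < 32) :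
    EE z g1 g2 g3 g4 x * EE z g1 g2 g3 g4 w = EE z g1 g2 g3 g4 (emul x w) := by
  rw [emul_chain hx hw]
  exact EE_chain (by norm_num) (by norm_num) (by norm_num) (by norm_num)
    (fun x hx => (EE_gen R hx).1) (fun x hx => (EE_gen R hx).2.1) (fun x hx => (EE_gen R hx).2.2.1)
    (fun x hx => (EE_gen R hx).2.2.2.1) (fun x hx => (EE_gen R hx).2.2.2.2) hx w

theorem EE_vals (z g1 g2 g3 g4 : C) : EE z g1 g2 g3 g4 0 = 1 ∧ EE z g1 g2 g3 g4 16 = z ∧
    EE z g1 g2 g3 g4 1 = g1 ∧ EE z g1 g2 g3 g4 2 = g2 ∧ EE z g1 g2 g3 g4 4 = g3 ∧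
    EE z g1 g2 g3 g4 8 = g4 := by
  refine ⟨?_, ?_, ?_, ?_, ?_, ?_⟩
  · show (1 : C) * (1 * (1 * (1 * 1))) = 1
    simp
  · show z * (1 * (1 * (1 * 1))) = z
    simp
  · show 1 * (g1 * (1 * (1 * 1))) = g1
    simp
  · show 1 * (1 * (g2 * (1 * 1))) = g2
    simp
  · show 1 * (1 * (1 * (g3 * 1))) = g3
    simp
  · show 1 * (1 * (1 * (1 * g4))) = g4
    simp

/-- conjugation of a word -/
theorem EE_conj (k : C) (w : ℕ) : k * EE z g1 g2 g3 g4 w * k⁻¹
    = EE (k * z * k⁻¹) (k * g1 * k⁻¹) (k * g2 * k⁻¹) (k * g3 * k⁻¹) (k * g4 * k⁻¹) w := by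
  unfold EE EEb
  cases bt w 4 <;> cases bt w 0 <;> cases bt w 1 <;> cases bt w 2 <;> cases bt w 3 <;>
    simp only [cond_true, cond_false] <;> group

theorem inv_fact : ∀ x < 32, ∀ w < 32, emul w w = 0 ∧ (emul x w = 0 → x = w) ∨
    emul w (emul w 16) = 0 ∧ (emul x (emul w 16) = 0 → x = w) := by decide +kernel

theorem nc_fact : ∀ e < 32, e = 0 ∨ e = 16 ∨ ∃ k < 32, emul k e = emul (emul e k) 16 := by
  decide +kernel

theorem EE_one (R : Rel z g1 g2 g3 g4) (hz : z ≠ 1) {e : ℕ} (he : e < 32)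
    (h : EE z g1 g2 g3 g4 e = 1) : e = 0 := by
  rcases nc_fact e he with h1 | h1 | ⟨k, hk, h1⟩
  · exact h1
  · rw [h1, (EE_vals z g1 g2 g3 g4).2.1] at h
    exact absurd h hz
  · exfalso
    apply hz
    have h2 := EE_mul R hk he
    have h3 := EE_mul R (emul_lt he hk) (show (16 : ℕ) < 32 by norm_num)
    rw [← EE_mul R he hk, (EE_vals z g1 g2 g3 g4).2.1, ← h1, ← h2, h, mul_one, one_mul] at h3
    exact mul_eq_left.1 h3

theorem EE_inj (R : Rel z g1 g2 g3 g4) (hz : z ≠ 1) {x w : ℕ} (hx : x < 32) (hw : w < 32)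
    (h : EE z g1 g2 g3 g4 x = EE z g1 g2 g3 g4 w) : x = w := by
  have key : ∀ w' < 32, emul w w' = 0 → (emul x w' = 0 → x = w) → x = w := by
    intro w' hw' h1 h2
    apply h2
    apply EE_one R hz (emul_lt hx hw')
    rw [← EE_mul R hx hw', h, EE_mul R hw hw', h1, (EE_vals z g1 g2 g3 g4).1]
  rcases inv_fact x hx w hw with ⟨h1, h2⟩ | ⟨h1, h2⟩
  · exact key w hw h1 h2
  · exact key _ (emul_lt hw (by norm_num)) h1 h2

end words

/-! ### The code of the centralizer -/

section code

variable {C : Type*} [Group C] {Q : Subgroup C} {z : C} {v : Fin 5 → C} {ρ : C →* SP}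

theorem rel_of_model (M : IsModel Q z v ρ) :
    Rel z (v 0 * v 1) (v 0 * v 2) (v 0 * v 3) (v 0 * v 4) := by
  have hs : ∀ k : Fin 5, k ≠ 0 → (v 0 * v k) * (v 0 * v k) = z := fun k hk => vv_sq M hk.symm
  have hr : ∀ i j : Fin 5, i ≠ 0 → j ≠ 0 → i ≠ j →
      (v 0 * v i) * (v 0 * v j) = z * ((v 0 * v j) * (v 0 * v i)) := by
    intro i j hi hj hij
    have e : ∀ i j : Fin 5, i ≠ 0 → (v 0 * v i) * (v 0 * v j) = z * (v i * v j) := by
      intro i j hi
      calc (v 0 * v i) * (v 0 * v j) = v 0 * (v i * v 0) * v j := by group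
        _ = v 0 * (z * (v 0 * v i)) * v j := by rw [M.v_anti i 0 hi]
        _ = (v 0 * z) * (v 0 * v i) * v j := by group
        _ = (z * v 0) * (v 0 * v i) * v j := by rw [M.z_comm]
        _ = z * (v 0 * v 0) * (v i * v j) := by group
        _ = z * (v i * v j) := by rw [M.v_sq, mul_one]
    rw [e i j hi, e j i hj, M.v_anti i j hij]
  exact
    { zz := M.z_sq
      zc := M.z_comm
      s1 := hs 1 (by decide)
      s2 := hs 2 (by decide)
      s3 := hs 3 (by decide)
      s4 := hs 4 (by decide)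
      r21 := hr 2 1 (by decide) (by decide) (by decide)
      r31 := hr 3 1 (by decide) (by decide) (by decide)
      r41 := hr 4 1 (by decide) (by decide) (by decide)
      r32 := hr 3 2 (by decide) (by decide) (by decide)
      r42 := hr 4 2 (by decide) (by decide) (by decide)
      r43 := hr 4 3 (by decide) (by decide) (by decide) }

/-- the word of a code in the model -/
def W (z : C) (v : Fin 5 → C) (x : ℕ) : C := EE z (v 0 * v 1) (v 0 * v 2) (v 0 * v 3) (v 0 * v 4) x

theorem gc_vals : gc 1 = 1 ∧ gc 2 = 2 ∧ gc 3 = 4 ∧ gc 4 = 8 := by decide +kernel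

theorem W_gc (z : C) (v : Fin 5 → C) (k : Fin 5) (hk : k ≠ 0) : W z v (gc k) = v 0 * v k := by
  obtain ⟨-, -, e1, e2, e3, e4⟩ := EE_vals z (v 0 * v 1) (v 0 * v 2) (v 0 * v 3) (v 0 * v 4)
  obtain ⟨f1, f2, f3, f4⟩ := gc_vals
  fin_cases k
  · exact absurd rfl hk
  · show W z v (gc 1) = _
    rw [f1]; exact e1
  · show W z v (gc 2) = _
    rw [f2]; exact e2
  · show W z v (gc 3) = _
    rw [f3]; exact e3
  · show W z v (gc 4) = _
    rw [f4]; exact e4

theorem gc_lt : ∀ k < 5, gc k < 32 := by decide +kernel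

theorem W_pair (M : IsModel Q z v ρ) (i j : Fin 5) (hij : i ≠ j) : W z v (pairc i j) = v i * v j := by
  have R := rel_of_model M
  by_cases hi : i = 0
  · subst hi
    have h1 : pairc ((0 : Fin 5) : ℕ) j = gc j := rfl
    rw [h1, W_gc z v j hij.symm]
  · have hi' : (i : ℕ) ≠ 0 := fun h => hi (Fin.ext h)
    have b1 : Nat.beq (i : ℕ) 0 = false := by
      rcases hb : Nat.beq (i : ℕ) 0 with _ | _
      · rfl
      · exact absurd (eq_of_beq hb) hi'
    have hz16 : W z v 16 = z := (EE_vals z (v 0 * v 1) (v 0 * v 2) (v 0 * v 3) (v 0 * v 4)).2.1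
    by_cases hj : j = 0
    · subst hj
      have h1 : pairc (i : ℕ) ((0 : Fin 5) : ℕ) = emul 16 (gc i) := by
        unfold pairc
        rw [b1]; rfl
      rw [h1]
      have h2 : W z v 16 * W z v (gc i) = W z v (emul 16 (gc i)) :=
        EE_mul R (by norm_num) (gc_lt _ i.2)
      rw [← h2, hz16, W_gc z v i hi, ← M.v_anti i 0 hi]
    · have hj' : (j : ℕ) ≠ 0 := fun h => hj (Fin.ext h)
      have b2 : Nat.beq (j : ℕ) 0 = false := by
        rcases hb : Nat.beq (j : ℕ) 0 with _ | _
        · rfl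
        · exact absurd (eq_of_beq hb) hj'
      have h1 : pairc (i : ℕ) (j : ℕ) = emul 16 (emul (gc i) (gc j)) := by
        unfold pairc
        rw [b1, b2]
      rw [h1]
      have h2 : W z v 16 * W z v (emul (gc i) (gc j)) = W z v (emul 16 (emul (gc i) (gc j))) :=
        EE_mul R (by norm_num) (emul_lt (gc_lt _ i.2) (gc_lt _ j.2))
      have h3 : W z v (gc i) * W z v (gc j) = W z v (emul (gc i) (gc j)) :=
        EE_mul R (gc_lt _ i.2) (gc_lt _ j.2)
      rw [← h2, ← h3, hz16, W_gc z v i hi, W_gc z v j hj]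
      calc z * (v 0 * v i * (v 0 * v j)) = z * (v 0 * (v i * v 0) * v j) := by group
        _ = z * (v 0 * (z * (v 0 * v i)) * v j) := by rw [M.v_anti i 0 hi]
        _ = z * ((v 0 * z) * (v 0 * v i) * v j) := by group
        _ = z * ((z * v 0) * (v 0 * v i) * v j) := by rw [M.z_comm]
        _ = (z * z) * (v 0 * v 0) * (v i * v j) := by group
        _ = v i * v j := by rw [M.v_sq, M.z_sq, mul_one, one_mul]

variable (κ : alternatingGroup (Fin 5) →* C) (hκ : ∀ σ, ρ (κ σ) = ⟨σ, 0⟩)

include hκ in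
theorem conj_v (M : IsModel Q z v ρ) (σ : alternatingGroup (Fin 5)) (i : Fin 5) :
    κ σ * v i * (κ σ)⁻¹ = v ((σ : Equiv.Perm (Fin 5)) i) := by
  rw [M.conj, hκ]
  show zp z 0 * _ = _
  rw [zp_zero, one_mul]

include hκ in
theorem conj_W (M : IsModel Q z v ρ) {p x : ℕ} (hp : p < 60) (hx : x < 32) :
    κ (PA p) * W z v x * (κ (PA p))⁻¹ = W z v (act p x) := by
  have R := rel_of_model M
  have hz : κ (PA p) * z * (κ (PA p))⁻¹ = z := by
    rw [M.z_comm, mul_assoc, mul_inv_cancel, mul_one]
  have hg : ∀ k : Fin 5, k ≠ 0 → κ (PA p) * (v 0 * v k) * (κ (PA p))⁻¹ = W z v (act p (gc k)) := by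
    intro k hk
    have h1 : κ (PA p) * (v 0 * v k) * (κ (PA p))⁻¹
        = (κ (PA p) * v 0 * (κ (PA p))⁻¹) * (κ (PA p) * v k * (κ (PA p))⁻¹) := by group
    rw [h1, conj_v κ hκ M, conj_v κ hκ M]
    have h2 : ((PA p : alternatingGroup (Fin 5)) : Equiv.Perm (Fin 5)) = P p := rfl
    rw [h2]
    have hne : P p 0 ≠ P p k := fun h => hk ((P p).injective h).symm
    rw [← W_pair M _ _ hne]
    have h3 : ((P p 0 : Fin 5) : ℕ) = pv p 0 := by
      show pv (p % 60) ((0 : Fin 5) : ℕ) = pv p 0
      rw [Nat.mod_eq_of_lt hp]; rfl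
    have h4 : ((P p k : Fin 5) : ℕ) = pv p k := by
      show pv (p % 60) k = pv p k
      rw [Nat.mod_eq_of_lt hp]
    rw [h3, h4]
    have hk0 : (k : ℕ) ≠ 0 := fun h => hk (Fin.ext h)
    obtain ⟨k', hk'⟩ : ∃ k', (k : ℕ) = k' + 1 := ⟨(k : ℕ) - 1, by omega⟩
    have hk4 : k' < 4 := by have := k.2; omega
    rw [hk', act_gc hp hk4]
  unfold W at hg ⊢
  rw [EE_conj, hz, act_chain hp hx]
  have h0 : EE z (v 0 * v 1) (v 0 * v 2) (v 0 * v 3) (v 0 * v 4) 0 = 1 := (EE_vals _ _ _ _ _).1
  have hgen : ∀ k : Fin 5, k ≠ 0 → ∀ y < 32, EE z (v 0 * v 1) (v 0 * v 2) (v 0 * v 3) (v 0 * v 4) y *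
      (κ (PA p) * (v 0 * v k) * (κ (PA p))⁻¹)
      = EE z (v 0 * v 1) (v 0 * v 2) (v 0 * v 3) (v 0 * v 4) (emul y (act p (gc k))) := by
    intro k hk y hy
    rw [hg k hk]
    exact EE_mul R hy (act_lt hp (gc_lt _ k.2))
  obtain ⟨f1, f2, f3, f4⟩ := gc_vals
  have g1 := hgen 1 (by decide)
  have g2 := hgen 2 (by decide)
  have g3 := hgen 3 (by decide)
  have g4 := hgen 4 (by decide)
  rw [show ((1 : Fin 5) : ℕ) = 1 from rfl, f1] at g1
  rw [show ((2 : Fin 5) : ℕ) = 2 from rfl, f2] at g2
  rw [show ((3 : Fin 5) : ℕ) = 3 from rfl, f3] at g3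
  rw [show ((4 : Fin 5) : ℕ) = 4 from rfl, f4] at g4
  have h1 := EE_chain (c := 16) (c1 := act p 1) (c2 := act p 2) (c3 := act p 4) (c4 := act p 8)
    (by norm_num) (act_lt hp (by norm_num)) (act_lt hp (by norm_num)) (act_lt hp (by norm_num))
    (fun y hy => (EE_gen R hy).1) g1 g2 g3 g4 (x := 0) (by norm_num) x
  rw [← h1, h0, one_mul]

/-- the element of a code -/
def DD (z : C) (v : Fin 5 → C) (κ : alternatingGroup (Fin 5) →* C) (c : ℕ) : C :=
  W z v (c % 32) * κ (PA (c / 32))

include hκ in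
theorem DD_mul (M : IsModel Q z v ρ) {c d : ℕ} (hc : c < 1920) (hd : d < 1920) :
    DD z v κ c * DD z v κ d = DD z v κ (mulN c d) := by
  have R := rel_of_model M
  have p1 : c / 32 < 60 := by omega
  have p2 : d / 32 < 60 := by omega
  have q1 : c % 32 < 32 := Nat.mod_lt _ (by norm_num)
  have q2 : d % 32 < 32 := Nat.mod_lt _ (by norm_num)
  have m1 := mulP_lt p1 p2
  have m2 := emul_lt q1 (act_lt p1 q2)
  have e1 : mulN c d / 32 = mulP (c / 32) (d / 32) := by
    show (32 * mulP (c / 32) (d / 32) + emul (c % 32) (act (c / 32) (d % 32))) / 32 = _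
    omega
  have e2 : mulN c d % 32 = emul (c % 32) (act (c / 32) (d % 32)) := by
    show (32 * mulP (c / 32) (d / 32) + emul (c % 32) (act (c / 32) (d % 32))) % 32 = _
    omega
  unfold DD
  rw [e1, e2, ← PA_mul p1 p2, map_mul]
  have h1 : W z v (c % 32) * W z v (act (c / 32) (d % 32))
      = W z v (emul (c % 32) (act (c / 32) (d % 32))) := EE_mul R q1 (act_lt p1 q2)
  rw [← h1, ← conj_W κ hκ M p1 q2]
  group

theorem rho_W (M : IsModel Q z v ρ) (x : ℕ) : (ρ (W z v x)).σ = 1 := by
  have hv : ∀ i, (ρ (v i)).σ = 1 := fun i => (M.mem_Q _).1 (M.v_mem i)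
  have hz : (ρ z).σ = 1 := (M.mem_Q _).1 M.z_mem
  have h1 : W z v x ∈ Q := by
    unfold W EE EEb
    have hc : ∀ (b : Bool) (y : C), y ∈ Q → cond b y 1 ∈ Q := by
      intro b y hy
      cases b
      · exact Q.one_mem
      · exact hy
    exact Q.mul_mem (hc _ _ M.z_mem) (Q.mul_mem (hc _ _ (Q.mul_mem (M.v_mem 0) (M.v_mem 1)))
      (Q.mul_mem (hc _ _ (Q.mul_mem (M.v_mem 0) (M.v_mem 2)))
      (Q.mul_mem (hc _ _ (Q.mul_mem (M.v_mem 0) (M.v_mem 3)))
        (hc _ _ (Q.mul_mem (M.v_mem 0) (M.v_mem 4))))))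
  exact (M.mem_Q _).1 h1

include hκ in
theorem DD_inj (M : IsModel Q z v ρ) {c d : ℕ} (hc : c < 1920) (hd : d < 1920)
    (h : DD z v κ c = DD z v κ d) : c = d := by
  have R := rel_of_model M
  have p1 : c / 32 < 60 := by omega
  have p2 : d / 32 < 60 := by omega
  have q1 : c % 32 < 32 := Nat.mod_lt _ (by norm_num)
  have q2 : d % 32 < 32 := Nat.mod_lt _ (by norm_num)
  have h1 : ∀ e : ℕ, (ρ (DD z v κ e)).σ = P (e / 32) := by
    intro e
    unfold DD
    rw [map_mul, mul_σ, rho_W M, hκ, one_mul]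
    rfl
  have h2 : P (c / 32) = P (d / 32) := by rw [← h1, ← h1, h]
  have h3 := PA_inj p1 p2 h2
  have h4 : c % 32 = d % 32 := by
    unfold DD at h
    rw [h3] at h
    exact EE_inj R M.z_ne q1 q2 (mul_right_cancel h)
  omega

theorem DD_16 : DD z v κ 16 = z := by
  unfold DD
  have h1 : (16 : ℕ) / 32 = 0 := by norm_num
  have h2 : (16 : ℕ) % 32 = 16 := by norm_num
  rw [h1, h2, PA_zero, map_one, mul_one]
  exact (EE_vals _ _ _ _ _).2.1

end code

/-- **Existence of the coding** of the centralizer of `t`. -/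
theorem exists_coded {G : Type*} [Group G] [Finite G] {t : G} (ht : t * t = 1)
    {Q : Subgroup (Subgroup.centralizer ({t} : Set G))} {z : Subgroup.centralizer ({t} : Set G)}
    {v : Fin 5 → Subgroup.centralizer ({t} : Set G)}
    {ρ : Subgroup.centralizer ({t} : Set G) →* SP} (M : IsModel Q z v ρ) (hz : (z : G) = t)
    (hcard : Nat.card (Subgroup.centralizer ({t} : Set G)) = 1920)
    (κ : alternatingGroup (Fin 5) →* Subgroup.centralizer ({t} : Set G))
    (hκ : ∀ σ, ρ (κ σ) = ⟨σ, 0⟩) : ∃ D : ℕ → G, Coded t D := by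
  refine ⟨fun c => ((DD z v κ c : Subgroup.centralizer ({t} : Set G)) : G), ?_, ?_, ?_, ?_, ?_⟩
  · intro i hi j hj h
    exact DD_inj κ hκ M hi hj (Subtype.ext h)
  · intro i _
    exact Subgroup.mem_centralizer_singleton_iff.1 (DD z v κ i).2
  · intro g hg
    have hinj : Function.Injective (fun i : Fin 1920 => DD z v κ i) := by
      intro i j h
      exact Fin.ext (DD_inj κ hκ M i.2 j.2 h)
    have hbij := hinj.bijective_of_nat_card_le (by rw [hcard]; simp)
    obtain ⟨i, hi⟩ := hbij.2 ⟨g, Subgroup.mem_centralizer_singleton_iff.2 hg⟩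
    exact ⟨i, i.2, congrArg Subtype.val hi⟩
  · intro i hi j hj
    exact congrArg Subtype.val (DD_mul κ hκ M hi hj)
  · show ((DD z v κ 16 : Subgroup.centralizer ({t} : Set G)) : G) = t
    rw [DD_16, hz]

end Cfsg.Agent.J3Type.CodeExists
end
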